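import Groth.Agent.LocCohZLib.Derived
import Groth.Agent.GrothSS.Inputs

/-!
# Spectral sequences of cohomology with supports
-/

noncomputable section

universe u

open CategoryTheory Limits TopologicalSpace Opposite CategoryTheory.Abelian

namespace Groth.Agent.LocCohZSS

open QCohBase CohTopLib LocCohZLib

variable {X : TopCat.{u}}

/-- sections supported in the complement of `U` of a flasque sheaf form a flasque sheaf -/
theorem isFlasque_sectSupp (U : Opens X) (F : CohTop.Ab X) [TopCat.Sheaf.IsFlasque F] :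
    TopCat.Sheaf.IsFlasque (CohCx.sectSupp U F) := by
  refine ⟨fun {A B} i => (AddCommGrpCat.epi_iff_surjective _).2 fun t => ?_⟩
  obtain ⟨A⟩ := A
  obtain ⟨B⟩ := B
  have hBA : B ≤ A := i.unop.le
  let G : Bool → Opens X := fun b => if b then B else A ⊓ U
  let sf : ∀ b, F.obj.obj (op (G b)) := fun b => match b with
    | true => sSupp U F B t
    | false => 0
  have hG : ∀ b, G b ≤ B ⊔ (A ⊓ U) := fun b => by cases b <;> simp [G]
  have hc : TopCat.Presheaf.IsCompatible F.obj G sf := by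
    intro a b
    have key : QCohBase.res F.obj (inf_le_left : B ⊓ (A ⊓ U) ≤ B) (sSupp U F B t) = 0 := by
      rw [← res_res F.obj (inf_le_left : B ⊓ U ≤ B) (le_inf inf_le_left (inf_le_right.trans inf_le_right)),
        res_sSupp U F t, map_zero]
    cases a <;> cases b
    · rfl
    · refine (map_zero _).trans ?_
      refine Eq.trans ?_ (res_res F.obj (inf_le_left : B ⊓ (A ⊓ U) ≤ B)
        (le_inf inf_le_right inf_le_left : (A ⊓ U) ⊓ B ≤ B ⊓ (A ⊓ U)) (sSupp U F B t))
      rw [key, map_zero]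
    · exact key.trans (map_zero _).symm
    · rfl
  obtain ⟨g, hg, -⟩ := TopCat.Sheaf.existsUnique_gluing' F G (B ⊔ (A ⊓ U)) (fun b => homOfLE (hG b))
    (sup_le (le_iSup G true) (le_iSup G false)) sf hc
  obtain ⟨s, hs⟩ := (AddCommGrpCat.epi_iff_surjective _).1 (TopCat.Presheaf.IsFlasque.epi (F := F.obj)
    (homOfLE (sup_le hBA inf_le_left : B ⊔ (A ⊓ U) ≤ A)).op) g
  have hs0 : QCohBase.res F.obj (inf_le_left : A ⊓ U ≤ A) s = 0 := by
    rw [← res_res F.obj (sup_le hBA inf_le_left : B ⊔ (A ⊓ U) ≤ A) (le_sup_right : A ⊓ U ≤ B ⊔ (A ⊓ U)) s]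
    exact (congrArg _ hs).trans (hg false)
  obtain ⟨t', ht'⟩ := (exists_sSupp_iff U F s).2 hs0
  refine ⟨t', sSupp_injective U F B ?_⟩
  refine (sSupp_res U F hBA t').trans ?_
  rw [ht', ← res_res F.obj (sup_le hBA inf_le_left : B ⊔ (A ⊓ U) ≤ A) (le_sup_left : B ≤ B ⊔ (A ⊓ U)) s]
  exact (congrArg _ hs).trans (hg true)

/-- maps out of `ℤ_V/ℤ_W` -/
def homZEquiv {W V : Opens X} (h : W ≤ V) (F : CohTop.Ab X) : (LocCohZ.zq h ⟶ F) ≃+ LocCohZ.sectZ F h :=
  (Ext.addEquiv₀ (X := LocCohZ.zq h) (Y := F)).symm.trans (LocCohZ.sect0Equiv F h)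

lemma homZEquiv_nat {W V : Opens X} (h : W ≤ V) {F G : CohTop.Ab X} (φ : F ⟶ G) (a : LocCohZ.zq h ⟶ F) :
    (homZEquiv h G (a ≫ φ)).1 = φ.hom.app (op V) (homZEquiv h F a).1 := by
  refine Eq.trans ?_ (sect0Equiv_map h φ (Ext.addEquiv₀.symm a))
  exact congrArg (fun x => (LocCohZ.sect0Equiv G h x).1) (Ext.mk₀_comp_mk₀ a φ).symm

/-- global sections with support as maps out of `ℤ_X/ℤ_U` -/
def sectSuppHomIso (U : Opens X) :
    LocCohZ.sectSuppF U ⋙ preadditiveCoyoneda.obj (op (free (⊤ : Opens X))) ≅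
      preadditiveCoyoneda.obj (op (LocCohZ.zq (le_top : U ≤ ⊤))) :=
  NatIso.ofComponents (fun F => ((secEquiv (CohCx.sectSupp U F) ⊤).trans
    ((gammaSectEquiv U F).trans (homZEquiv (le_top : U ≤ ⊤) F).symm)).toAddCommGrpIso)
    fun {F G} φ => by
      refine AddCommGrpCat.ext fun a => ?_
      apply (homZEquiv (le_top : U ≤ ⊤) G).injective
      refine ((homZEquiv (le_top : U ≤ ⊤) G).apply_symm_apply _).trans ?_
      refine Subtype.ext (Eq.trans ?_ (homZEquiv_nat _ φ _).symm)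
      refine (sSupp_nat U φ ⊤ (secEquiv (CohCx.sectSupp U F) ⊤ a)).trans ?_
      exact congrArg (φ.hom.app (op ⊤)) (congrArg Subtype.val
        ((homZEquiv (le_top : U ≤ ⊤) F).apply_symm_apply
          (gammaSectEquiv U F (secEquiv (CohCx.sectSupp U F) ⊤ a)))).symm

/-- direct image and sections with support -/
def pushHomIso {Y : TopCat.{u}} (f : X ⟶ Y) (V : Opens Y) :
    CohTop.push f ⋙ preadditiveCoyoneda.obj (op (LocCohZ.zq (le_top : V ≤ ⊤))) ≅
      preadditiveCoyoneda.obj (op (LocCohZ.zq (le_top : (Opens.map f).obj V ≤ ⊤))) :=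
  NatIso.ofComponents (fun F => ((homZEquiv (le_top : V ≤ ⊤) ((CohTop.push f).obj F)).trans
    (homZEquiv (le_top : (Opens.map f).obj V ≤ ⊤) F).symm).toAddCommGrpIso)
    fun {F G} φ => by
      refine AddCommGrpCat.ext fun a => ?_
      apply (homZEquiv (le_top : (Opens.map f).obj V ≤ ⊤) G).injective
      refine ((homZEquiv (le_top : (Opens.map f).obj V ≤ ⊤) G).apply_symm_apply _).trans ?_
      refine Subtype.ext (Eq.trans ?_ (homZEquiv_nat _ φ _).symm)
      refine (homZEquiv_nat (le_top : V ≤ ⊤) ((CohTop.push f).map φ) a).trans ?_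
      exact congrArg (φ.hom.app (op ⊤)) (congrArg Subtype.val
        ((homZEquiv (le_top : (Opens.map f).obj V ≤ ⊤) F).apply_symm_apply _)).symm

theorem exists_spectralSequence_HZsh (F : CohTop.Ab X) (U : Opens X) :
    ∃ (E : E₂CohomologicalSpectralSequence AddCommGrpCat.{u})
      (a : SpSeq.Abutment E (fun n : ℤ =>
        if 0 ≤ n then AddCommGrpCat.of (LocCohZ.HZc F n.toNat U) else AddCommGrpCat.of PUnit.{u + 1})),
      (∀ n : ℤ, a.IsFinite n) ∧ SpSeq.IsBounded E ∧
      ∀ p q : ℤ, Nonempty ((E.page 2 le_rfl).X (p, q) ≅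
        (if 0 ≤ p ∧ 0 ≤ q then AddCommGrpCat.of (CohTop.HU ((LocCohZ.HZsh U q.toNat).obj F) p.toNat ⊤)
          else AddCommGrpCat.of PUnit.{u + 1})) :=
  GrothSS.exists_spectralSequence_comp_ite (LocCohZ.sectSuppF U) (preadditiveCoyoneda.obj (op (free ⊤)))
    (fun Q hQ => GrothSS.isAcyclicObj_hom _ _ fun q => by
      haveI := FlasqueAcyclic.isFlasque_of_injective Q
      haveI := isFlasque_sectSupp U Q
      exact subsingleton_HU_of_isFlasque (CohCx.sectSupp U Q) ⊤ q)
    F _ GrothSS.isZero_addCommGrp_of_punit (fun n => AddCommGrpCat.of (LocCohZ.HZc F n U))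
    (fun n => ⟨(GrothSS.rightDerivedCongr (sectSuppHomIso U) n).app F ≪≫
      (GrothSS.nonempty_rightDerived_hom_iso _ F n).some⟩)
    (fun p q => AddCommGrpCat.of (CohTop.HU ((LocCohZ.HZsh U q).obj F) p ⊤))
    (fun p _ => GrothSS.nonempty_rightDerived_hom_iso _ _ p)

theorem exists_spectralSequence_Rpush {Y : TopCat.{u}} (f : X ⟶ Y) (V : Opens Y) (F : CohTop.Ab X) :
    ∃ (E : E₂CohomologicalSpectralSequence AddCommGrpCat.{u})
      (a : SpSeq.Abutment E (fun n : ℤ =>
        if 0 ≤ n then AddCommGrpCat.of (LocCohZ.HZc F n.toNat ((Opens.map f).obj V))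
          else AddCommGrpCat.of PUnit.{u + 1})),
      (∀ n : ℤ, a.IsFinite n) ∧ SpSeq.IsBounded E ∧
      ∀ p q : ℤ, Nonempty ((E.page 2 le_rfl).X (p, q) ≅
        (if 0 ≤ p ∧ 0 ≤ q then AddCommGrpCat.of (LocCohZ.HZc ((CohTop.Rpush f q.toNat).obj F) p.toNat V)
          else AddCommGrpCat.of PUnit.{u + 1})) := by
  haveI := preservesFiniteLimits_push f
  haveI : (CohTop.push f).Additive := Functor.additive_of_preserves_binary_products _
  exact GrothSS.exists_spectralSequence_comp_ite (CohTop.push f)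
    (preadditiveCoyoneda.obj (op (LocCohZ.zq (le_top : V ≤ ⊤))))
    (fun Q hQ => GrothSS.isAcyclicObj_hom _ _ fun q => by
      haveI := FlasqueAcyclic.isFlasque_of_injective Q
      haveI : TopCat.Sheaf.IsFlasque ((CohTop.push f).obj Q) := TopCat.Sheaf.IsFlasque.pushforward_isFlasque Q f
      exact subsingleton_HZ_of_isFlasque (le_top : V ≤ ⊤) _ q)
    F _ GrothSS.isZero_addCommGrp_of_punit (fun n => AddCommGrpCat.of (LocCohZ.HZc F n ((Opens.map f).obj V)))
    (fun n => ⟨(GrothSS.rightDerivedCongr (pushHomIso f V) n).app F ≪≫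
      (GrothSS.nonempty_rightDerived_hom_iso _ F n).some⟩)
    (fun p q => AddCommGrpCat.of (LocCohZ.HZc ((CohTop.Rpush f q).obj F) p V))
    (fun p _ => GrothSS.nonempty_rightDerived_hom_iso _ _ p)

end Groth.Agent.LocCohZSS
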