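import Groth.Agent.LocCohZSS.Koszul
import Groth.Agent.LocCohZLib.Derived
import Groth.Agent.KoszulCech.LocCoh
import Groth.Agent.LocCohBasic.Depth
import Groth.Agent.Depth.Change
import Groth.Agent.ZClosLib.Depth
import Groth.Agent.QCohBase.Induction

/-!
# Depth and vanishing of local cohomology sheaves
-/

set_option autoImplicit false
set_option linter.style.haveILetI false

noncomputable section

universe u

open CategoryTheory Limits AlgebraicGeometry Opposite TopologicalSpace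

namespace Groth.Agent.LocCohZSS

open LocCohZLib

lemma subsingleton_iff_of_nonempty_equiv {α β : Type u} [AddCommGroup α] [AddCommGroup β] (h : Nonempty (α ≃+ β)) :
    Subsingleton α ↔ Subsingleton β :=
  h.elim fun e => e.toEquiv.subsingleton_congr

/-- the criterion on an affine scheme -/
theorem subsingleton_HZM_iff (Y : Scheme.{u}) [IsAffine Y] [IsNoetherianRing Γ(Y, ⊤)] (N : Y.Modules)
    [Coh.IsQCoh N] [Module.Finite Γ(Y, ⊤) (N.val.obj (op ⊤))] (fs : List Γ(Y, ⊤)) (n : ℕ) :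
    (∀ i < n, Subsingleton (LocCohZ.HZM Y N i (⨆ j : Fin fs.length, Y.basicOpen (fs.get j)))) ↔
      (n : ℕ∞) ≤ LocCoh.idealDepth (Ideal.span {a | a ∈ fs}) (N.val.obj (op ⊤)) := by
  refine Iff.trans ?_ (LocCohBasic.le_idealDepth_iff_subsingleton (Ideal.span {a | a ∈ fs})
    (ModuleCat.of Γ(Y, ⊤) (N.val.obj (op ⊤)))).symm
  refine forall₂_congr fun i _ => ?_
  obtain ⟨a⟩ := nonempty_koszul_HZM Y fs N i
  have h := KoszulCech.nonempty_H_equiv_koszulHLim fs.get (N.val.obj (op ⊤)) i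
  rw [List.map_get_finRange, Set.range_list_get] at h
  obtain ⟨b⟩ := h
  exact (subsingleton_iff_of_nonempty_equiv ⟨b.toAddEquiv.trans a⟩).symm

variable {X : Scheme.{u}}

/-- the ring map to the sections of the restricted scheme -/
abbrev restrTopHom (V : X.Opens) : Γ(X, V.ι ''ᵁ ⊤) →+* Γ(V.toScheme, ⊤) := (V.ι.appIso ⊤).hom.hom

lemma restrTopHom_smul (V : X.Opens) (M : X.Modules) (a : Γ(X, V.ι ''ᵁ ⊤)) (x : Γ(M, V.ι ''ᵁ ⊤)) :
    (restrTopHom V a • (show (M.restrict V.ι).val.obj (op ⊤) from x) :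
      (M.restrict V.ι).val.obj (op ⊤)) = (a • x : Γ(M, V.ι ''ᵁ ⊤)) := by
  show ((V.ι.appIso ⊤).inv ((V.ι.appIso ⊤).hom a)) • (show Γ(M, V.ι ''ᵁ ⊤) from x) = _
  rw [← CommRingCat.comp_apply, Iso.hom_inv_id]
  rfl

/-- depth at a stalk through a localisation -/
theorem depth_stalk_eq [IsLocallyNoetherian X] (M : X.Modules) (hM : Coh.IsCoh M) {W : X.Opens} (hW : IsAffineOpen W)
    (x : X) (hx : x ∈ W) :
    LocCoh.depth (X.presheaf.stalk x) (M.presheaf.stalk x) =
      LocCoh.depth (Localization.AtPrime (hW.primeIdealOf ⟨x, hx⟩).asIdeal)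
        (LocalizedModule (hW.primeIdealOf ⟨x, hx⟩).asIdeal.primeCompl Γ(M, W)) := by
  haveI := hM.1
  haveI := ZClosLib.finite_stalk M hM x
  let P := (hW.primeIdealOf ⟨x, hx⟩).asIdeal
  letI := FlatOver.germModule M x hx
  letI := (X.presheaf.germ W x hx).hom.toAlgebra
  haveI hloc : IsLocalization.AtPrime (X.presheaf.stalk x) P := hW.isLocalization_stalk ⟨x, hx⟩
  haveI : IsScalarTower Γ(X, W) (X.presheaf.stalk x) (M.presheaf.stalk x) :=
    .of_algebraMap_smul fun _ _ => rfl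
  haveI := FlatOver.isLocalizedModule_germₗ M hW x hx
  let e : Localization.AtPrime P ≃ₐ[Γ(X, W)] X.presheaf.stalk x :=
    IsLocalization.algEquiv P.primeCompl _ _
  letI : Algebra (Localization.AtPrime P) (X.presheaf.stalk x) := e.toRingEquiv.toRingHom.toAlgebra
  letI : Module (Localization.AtPrime P) (M.presheaf.stalk x) :=
    Module.compHom _ e.toRingEquiv.toRingHom
  haveI : IsScalarTower (Localization.AtPrime P) (X.presheaf.stalk x) (M.presheaf.stalk x) :=
    .of_algebraMap_smul fun _ _ => rfl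
  haveI : IsScalarTower Γ(X, W) (Localization.AtPrime P) (M.presheaf.stalk x) :=
    .of_algebraMap_smul fun r z => by
      change e (algebraMap Γ(X, W) (Localization.AtPrime P) r) • z = r • z
      rw [e.commutes, IsScalarTower.algebraMap_smul]
  refine (Depth.depth_eq_of_surjective (R := Localization.AtPrime P) (S := X.presheaf.stalk x)
    (M := M.presheaf.stalk x) e.surjective).trans ?_
  exact (Depth.depth_congr (LinearEquiv.extendScalarsOfIsLocalization P.primeCompl (Localization.AtPrime P)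
    (IsLocalizedModule.iso P.primeCompl (FlatOver.germₗ M x hx)))).symm

/-- the criterion over an affine open -/
theorem subsingleton_HZ_affine_iff [IsLocallyNoetherian X] (U : X.Opens) (M : X.Modules) (hM : Coh.IsCoh M)
    (V : X.Opens) (hV : IsAffineOpen V) (n : ℕ) :
    (∀ i < n, Subsingleton (LocCohZ.HZ (X := X.carrier) (Coh.toAb M) i (inf_le_left : V ⊓ U ≤ V))) ↔
      ∀ x : X, x ∈ V → x ∉ (U : Set X) → (n : ℕ∞) ≤ LocCoh.depth (X.presheaf.stalk x) (M.presheaf.stalk x) := by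
  classical
  haveI := hM.1
  haveI : IsAffine V := hV
  set W := V.ι ''ᵁ (⊤ : V.toScheme.Opens) with hWdef
  have hWV : W = V := V.ι_image_top
  have hW : IsAffineOpen W := hWV ▸ hV
  haveI : IsNoetherianRing Γ(X, W) := QCohBase.isNoetherianRing_sections hW
  haveI : IsNoetherianRing Γ(V.toScheme, ⊤) :=
    isNoetherianRing_of_ringEquiv Γ(X, W) (V.ι.appIso ⊤).commRingCatIsoToRingEquiv
  haveI hfinW : Module.Finite Γ(X, W) Γ(M, W) := QCohBase.finite_sections M hM.2 hW
  letI : Algebra Γ(X, W) Γ(V.toScheme, ⊤) := (restrTopHom V).toAlgebra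
  letI : Module Γ(X, W) ((M.restrict V.ι).val.obj (op ⊤)) := Module.compHom _ (restrTopHom V)
  haveI : IsScalarTower Γ(X, W) Γ(V.toScheme, ⊤) ((M.restrict V.ι).val.obj (op ⊤)) :=
    .of_algebraMap_smul fun _ _ => rfl
  let eN : Γ(M, W) ≃ₗ[Γ(X, W)] (M.restrict V.ι).val.obj (op ⊤) :=
    { toFun := fun x => x
      invFun := fun x => x
      left_inv := fun _ => rfl
      right_inv := fun _ => rfl
      map_add' := fun _ _ => rfl
      map_smul' := fun a x => (restrTopHom_smul V M a x).symm }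
  haveI : Module.Finite Γ(X, W) ((M.restrict V.ι).val.obj (op ⊤)) := Module.Finite.equiv eN
  haveI : Module.Finite Γ(V.toScheme, ⊤) ((M.restrict V.ι).val.obj (op ⊤)) :=
    Module.Finite.of_restrictScalars_finite Γ(X, W) _ _
  haveI : Coh.IsQCoh (M.restrict V.ι) := Scheme.Modules.isQuasicoherent_restrictFunctor V.ι M
  haveI := noetherianSpace_of_isAffineOpen W hW
  have hWU : IsCompact ((W ⊓ U : X.Opens) : Set X) := by
    have := (NoetherianSpace.isCompact (W.ι ⁻¹' (U : Set X))).image W.ι.continuous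
    rw [Set.image_preimage_eq_inter_range, Scheme.Opens.range_ι, Set.inter_comm] at this
    exact this
  obtain ⟨s, hs⟩ := QCohBase.exists_finset_basicOpen_eq hW (W := W ⊓ U) hWU inf_le_left
  let fs : List Γ(V.toScheme, ⊤) := s.toList.map (restrTopHom V)
  let I : Ideal Γ(X, W) := Ideal.span {a | a ∈ s.toList}
  have hmem : ∀ (g : Γ(X, W)) (z : V.toScheme), z ∈ V.toScheme.basicOpen (restrTopHom V g) ↔
      V.ι z ∈ X.basicOpen g := fun g z => by
    have h1 : V.ι ''ᵁ V.toScheme.basicOpen (restrTopHom V g) = X.basicOpen g := by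
      rw [Scheme.image_basicOpen]
      congr 1
      show (V.ι.appIso ⊤).inv ((V.ι.appIso ⊤).hom g) = g
      rw [← CommRingCat.comp_apply, Iso.hom_inv_id]
      rfl
    rw [← h1]
    exact ⟨fun h => ⟨z, h, rfl⟩, fun ⟨z', h, e⟩ => Subtype.ext (show z'.1 = z.1 from e) ▸ h⟩
  have hU : (⨆ j : Fin fs.length, V.toScheme.basicOpen (fs.get j)) =
      (Opens.map (CohCx.incl (X := X.carrier) V)).obj (V ⊓ U) := by
    refine Opens.ext (Set.ext fun z => ?_)
    have h2 : (V.ι z ∈ ((W ⊓ U : X.Opens) : Set X)) ↔ ∃ g ∈ s, V.ι z ∈ X.basicOpen g := by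
      rw [hs]; simp
    have h3 : z ∈ SetLike.coe ((Opens.map (CohCx.incl (X := X.carrier) V)).obj (V ⊓ U)) ↔
        V.ι z ∈ ((W ⊓ U : X.Opens) : Set X) := by rw [hWV]; rfl
    refine Iff.trans ?_ (h3.trans h2).symm
    rw [Opens.coe_iSup, Set.mem_iUnion]
    constructor
    · rintro ⟨j, hj⟩
      obtain ⟨g, hg, hgj⟩ := List.mem_map.1 (List.get_mem fs j)
      exact ⟨g, Finset.mem_toList.1 hg, (hmem g z).1 (hgj ▸ hj)⟩
    · rintro ⟨g, hg, hz⟩
      obtain ⟨j, hj⟩ := List.get_of_mem (List.mem_map_of_mem (f := restrTopHom V) (Finset.mem_toList.2 hg))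
      exact ⟨j, hj ▸ (hmem g z).2 hz⟩
  have key : (∀ i < n, Subsingleton (LocCohZ.HZ (X := X.carrier) (Coh.toAb M) i (inf_le_left : V ⊓ U ≤ V))) ↔
      (n : ℕ∞) ≤ LocCoh.idealDepth I Γ(M, W) := by
    have h := subsingleton_HZM_iff V.toScheme (M.restrict V.ι) fs n
    rw [hU] at h
    have hfs : Ideal.span {a | a ∈ fs} = I.map (algebraMap Γ(X, W) Γ(V.toScheme, ⊤)) := by
      rw [Ideal.map_span]
      congr 1
      ext a
      simp [fs, RingHom.algebraMap_toAlgebra]
      rfl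
    rw [hfs, Depth.idealDepth_map_eq, ← Depth.idealDepth_congr eN] at h
    refine Iff.trans (forall₂_congr fun i _ => ?_) h
    exact subsingleton_iff_of_nonempty_equiv
      ((nonempty_HZ_restr_iso (X := X.carrier) (inf_le_left : V ⊓ U ≤ V) i).map fun c =>
        hzRestrEquiv (X := X.carrier) (inf_le_left : V ⊓ U ≤ V) c (Coh.toAb M))
  have hI : ∀ (x : X) (hx : x ∈ W), x ∉ (U : Set X) ↔ I ≤ (hW.primeIdealOf ⟨x, hx⟩).asIdeal := fun x hx => by
    have h2 : x ∈ ((W ⊓ U : X.Opens) : Set X) ↔ ∃ g ∈ s, x ∈ X.basicOpen g := by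
      rw [hs]; simp
    rw [Ideal.span_le]
    constructor
    · intro hxU g hg
      by_contra hgP
      exact hxU (h2.2 ⟨g, Finset.mem_toList.1 hg, (X.mem_basicOpen g x hx).2
        ((AssPts.notMem_prime_iff hW x hx g).1 hgP)⟩).2
    · intro hle hxU
      obtain ⟨g, hg, hgx⟩ := h2.1 ⟨hx, hxU⟩
      exact (AssPts.notMem_prime_iff hW x hx g).2 ((X.mem_basicOpen g x hx).1 hgx) (hle (Finset.mem_toList.2 hg))
  rw [key, Depth.idealDepth_eq_iInf Γ(M, W) I]
  constructor
  · intro h x hxV hxU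
    rw [depth_stalk_eq M hM hW x (hWV.symm ▸ hxV)]
    exact (le_iInf₂_iff.1 h) _ ((hI x _).1 hxU)
  · intro h
    refine le_iInf₂ fun p hp => ?_
    obtain ⟨p, hp'⟩ := p
    haveI := hp'
    obtain ⟨y, hy, hyp⟩ := AssPts.exists_point hW p
    have hyU : y ∉ (U : Set X) := (hI y hy).2 (hyp.symm ▸ hp)
    have hd := h y (hWV ▸ hy) hyU
    rw [depth_stalk_eq M hM hW y hy] at hd
    subst hyp
    exact hd

theorem isZero_HZsh_iff_depth [IsLocallyNoetherian X] (U : X.Opens) (M : X.Modules) (hM : Coh.IsCoh M) (n : ℕ) :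
    (∀ i : ℕ, i < n → IsZero ((LocCohZ.HZsh (X := X.carrier) U i).obj (Coh.toAb M))) ↔
      ∀ x : X, x ∉ (U : Set X) → (n : ℕ∞) ≤ LocCoh.depth (X.presheaf.stalk x) (M.presheaf.stalk x) := by
  constructor
  · intro h x hxU
    obtain ⟨_, ⟨(V : X.Opens), hV, rfl⟩, hxV, -⟩ :=
      X.isBasis_affineOpens.exists_subset_of_mem_open (Set.mem_univ x) isOpen_univ
    exact (subsingleton_HZ_affine_iff U M hM V hV n).1
      (fun i hi => (isZero_HZsh_iff_subsingleton (X := X.carrier) U (Coh.toAb M) n).1 h V i hi) x hxV hxU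
  · intro h i
    induction i using Nat.strong_induction_on with
    | h i ih =>
      intro hi
      refine isZero_HZsh_of_locally (X := X.carrier) U i (Coh.toAb M) (fun V j hj =>
        subsingleton_HZ_of_isZero (X := X.carrier) U j (Coh.toAb M)
          (fun k hk => ih k (lt_of_le_of_lt hk hj) (lt_of_le_of_lt hk (hj.trans hi))) V) fun V ξ x hx => ?_
      obtain ⟨_, ⟨(V' : X.Opens), hV', rfl⟩, hxV', hle⟩ :=
        X.isBasis_affineOpens.exists_subset_of_mem_open (show x ∈ (V : Set X) from hx) V.isOpen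
      exact ⟨V', hle, hxV', ((subsingleton_HZ_affine_iff U M hM V' hV' n).2 (fun y _ hy => h y hy) i hi).elim _ _⟩

end Groth.Agent.LocCohZSS
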