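import Groth.Agent.LocCohZSS.ExtPresheaf
import Groth.Agent.LocCohZSS.Basic

/-!
# The local cohomology sheaves of a closed subset as sheafifications
-/

set_option linter.style.haveILetI false

noncomputable section

universe u

open CategoryTheory Limits TopologicalSpace Opposite ZeroObject

namespace Groth.Agent.LocCohZSS

open QCohBase CohTopLib LocCohZLib

variable {X : TopCat.{u}} (U : Opens X)

/-- the pairs `T ⊓ U ≤ T` -/
def zqInfFun : Opens X ⥤ CohTop.Ab X where
  obj T := LocCohZ.zq (inf_le_left : T ⊓ U ≤ T)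
  map {T' T} g := LocCohZ.zqMap inf_le_left inf_le_left (inf_le_inf_right U (leOfHom g)) (leOfHom g)
  map_id T := by
    apply coequalizer.hom_ext
    simp only [LocCohZ.zqMap, cokernel.map, cokernel.π_desc, Category.comp_id]
    rw [show homOfLE (le_refl T) = 𝟙 T from Subsingleton.elim _ _, CohFree.freeSheafMap_id]
    exact Category.id_comp _
  map_comp {A B C} f g := by
    apply coequalizer.hom_ext
    simp only [LocCohZ.zqMap, cokernel.map, cokernel.π_desc, cokernel.π_desc_assoc, Category.assoc]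
    rw [← Category.assoc, ← CohFree.freeSheafMap_comp]
    rfl

lemma homZEquiv_zqMap' {W V W' V' : Opens X} (h : W ≤ V) (h' : W' ≤ V') (hW : W' ≤ W) (hV : V' ≤ V)
    (F : CohTop.Ab X) (a : LocCohZ.zq h ⟶ F) :
    (homZEquiv h' F (LocCohZ.zqMap h h' hW hV ≫ a)).1 = QCohBase.res F.obj hV (homZEquiv h F a).1 := by
  show CohFree.evalGen _ V' F (cokernel.π _ ≫ CategoryTheory.Abelian.Ext.addEquiv₀ _) =
    QCohBase.res F.obj hV (CohFree.evalGen _ V F (cokernel.π _ ≫ CategoryTheory.Abelian.Ext.addEquiv₀ _))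
  erw [AddEquiv.apply_symm_apply, AddEquiv.apply_symm_apply]
  rw [LocCohZ.zqMap, cokernel.π_desc_assoc, Category.assoc]
  exact CohFree.evalGen_freeSheafMap_comp _ _ _ _

/-- sections with support as maps out of `ℤ_T/ℤ_{T ∩ U}` -/
def sSuppHomEquiv (F : CohTop.Ab X) (T : Opens X) :
    (CohCx.sectSupp U F).obj.obj (op T) ≃+ (LocCohZ.zq (inf_le_left : T ⊓ U ≤ T) ⟶ F) :=
  ((AddMonoidHom.ofInjective (f := sSupp U F T) (sSupp_injective U F T)).trans
    (AddEquiv.addSubgroupCongr (show (sSupp U F T).range = LocCohZ.sectZ F (inf_le_left : T ⊓ U ≤ T) from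
      AddSubgroup.ext fun s => exists_sSupp_iff U F s))).trans (homZEquiv _ F).symm

lemma sSuppHomEquiv_val (F : CohTop.Ab X) (T : Opens X) (x) :
    (homZEquiv _ F (sSuppHomEquiv U F T x)).1 = sSupp U F T x :=
  congrArg Subtype.val ((homZEquiv (inf_le_left : T ⊓ U ≤ T) F).apply_symm_apply _)

/-- sections with support as homomorphism presheaves -/
def sectSuppPreIso :
    LocCohZ.sectSuppF U ⋙ sheafToPresheaf (Opens.grothendieckTopology X) AddCommGrpCat.{u} ≅
      homPre (zqInfFun U) :=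
  NatIso.ofComponents (fun F => NatIso.ofComponents (fun T => (sSuppHomEquiv U F T.unop).toAddCommGrpIso)
    fun {T T'} g => by
      refine AddCommGrpCat.ext fun x => ?_
      apply (homZEquiv (inf_le_left : T'.unop ⊓ U ≤ T'.unop) F).injective
      refine Subtype.ext ((sSuppHomEquiv_val U F T'.unop _).trans ?_)
      refine Eq.trans ?_ (homZEquiv_zqMap' (inf_le_left : T.unop ⊓ U ≤ T.unop) inf_le_left
        (inf_le_inf_right U g.unop.le) g.unop.le F (sSuppHomEquiv U F T.unop x)).symm
      refine Eq.trans ?_ (congrArg (QCohBase.res F.obj g.unop.le) (sSuppHomEquiv_val U F T.unop x)).symm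
      exact sSupp_res U F g.unop.le x)
    fun {F G} φ => by
      refine NatTrans.ext (funext fun T => AddCommGrpCat.ext fun x => ?_)
      apply (homZEquiv (inf_le_left : T.unop ⊓ U ≤ T.unop) G).injective
      refine Subtype.ext ((sSuppHomEquiv_val U G T.unop _).trans ?_)
      refine Eq.trans ?_ (homZEquiv_nat _ φ (sSuppHomEquiv U F T.unop x)).symm
      refine Eq.trans ?_ (congrArg (φ.hom.app (op T.unop)) (sSuppHomEquiv_val U F T.unop x)).symm
      exact sSupp_nat U φ _ x

theorem nonempty_HZsh_iso_sheafify (F : CohTop.Ab X) (q : ℕ) :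
    Nonempty ((LocCohZ.HZsh U q).obj F ≅
      (presheafToSheaf (Opens.grothendieckTopology X) AddCommGrpCat.{u}).obj (extPre (zqInfFun U) q F)) := by
  let L := presheafToSheaf (Opens.grothendieckTopology X) AddCommGrpCat.{u}
  let e : LocCohZ.sectSuppF U ≅ homPre (zqInfFun U) ⋙ L :=
    Functor.isoWhiskerLeft (LocCohZ.sectSuppF U)
      (asIso (sheafificationAdjunction (Opens.grothendieckTopology X) AddCommGrpCat.{u}).counit).symm ≪≫
      Functor.isoWhiskerRight (sectSuppPreIso U) L
  exact nonempty_rightDerived_comp_homPre (zqInfFun U) L (LocCohZ.sectSuppF U) e F q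

/-- vanishing on a basis -/
theorem isZero_HZsh_of_basis (F : CohTop.Ab X) (q : ℕ) (P : Opens X → Prop)
    (hP : ∀ (x : X) (T : Opens X), x ∈ T → ∃ V ≤ T, x ∈ V ∧ P V)
    (h : ∀ V, P V → Subsingleton (LocCohZ.HZ F q (inf_le_left : V ⊓ U ≤ V))) :
    IsZero ((LocCohZ.HZsh U q).obj F) := by
  obtain ⟨e⟩ := nonempty_HZsh_iso_sheafify U F q
  refine IsZero.of_iso ?_ e
  let G : CohTop.Ab X := (presheafToSheaf (Opens.grothendieckTopology X) AddCommGrpCat.{u}).obj (extPre (zqInfFun U) q F)
  haveI : Presheaf.IsLocallyInjective (Opens.grothendieckTopology X) (0 : extPre (zqInfFun U) q F ⟶ 0) :=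
    ⟨fun {T} a b _ x hx => by
      obtain ⟨V, hVT, hxV, hPV⟩ := hP x T.unop hx
      exact ⟨V, homOfLE hVT, (h V hPV).elim _ _, hxV⟩⟩
  haveI : Presheaf.IsLocallySurjective (Opens.grothendieckTopology X) (0 : extPre (zqInfFun U) q F ⟶ 0) :=
    ⟨fun {T} s x hx => ⟨T, 𝟙 T, ⟨0, @Subsingleton.elim _ (AddCommGrpCat.subsingleton_of_isZero
      ((isZero_zero _).obj (op T))) _ _⟩, hx⟩⟩
  have hiso : IsIso ((presheafToSheaf (Opens.grothendieckTopology X) AddCommGrpCat.{u}).map
      (0 : extPre (zqInfFun U) q F ⟶ 0)) := by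
    rw [← GrothendieckTopology.W_iff]
    exact GrothendieckTopology.W_of_isLocallyBijective (Opens.grothendieckTopology X) (0 : extPre (zqInfFun U) q F ⟶ 0)
  exact IsZero.of_iso (Functor.map_isZero _ (isZero_zero _))
    (@asIso _ _ _ _ _ hiso)

end Groth.Agent.LocCohZSS
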