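import Groth.Agent.LocCohZSS.Depth
import Groth.Agent.LocCohZSS.HZshSheafify
import Groth.Agent.LocCohBasic.Vanish
import Groth.Agent.LocCohBasic.BaseChange

/-!
# Vanishing of local cohomology above the dimension of the support
-/

set_option autoImplicit false
set_option linter.style.haveILetI false

noncomputable section

universe u

open CategoryTheory Limits AlgebraicGeometry Opposite TopologicalSpace TensorProduct

namespace Groth.Agent.LocCohZSS

open LocCohZLib

/-- vanishing can be tested at the primes containing the ideal -/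
theorem subsingleton_H_of_forall_dim_lt {S : Type u} [CommRing S] [IsNoetherianRing S] (I : Ideal S) (i : ℕ)
    (h : ∀ p : PrimeSpectrum S, I ≤ p.asIdeal → ringKrullDim (Localization.AtPrime p.asIdeal) < (i : WithBot ℕ∞))
    (M : ModuleCat.{u} S) : Subsingleton ((localCohomology I i).obj M) := by
  refine subsingleton_of_forall_eq 0 fun y => ?_
  by_contra hy
  have hne : Ideal.torsionOf S _ y ≠ ⊤ := fun e => hy ((Ideal.torsionOf_eq_top_iff S y).1 e)
  obtain ⟨p, hp, hle⟩ := Ideal.exists_le_maximal _ hne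
  haveI := hp.isPrime
  by_cases hIp : I ≤ p
  · obtain ⟨e⟩ := LocCohBasic.nonempty_flat_baseChange (R' := Localization.AtPrime p) I i
    haveI hsub : Subsingleton ((localCohomology (I.map (algebraMap S (Localization.AtPrime p))) i).obj
        ((LocCohBasic.bcFunctor S (Localization.AtPrime p)).obj M)) :=
      LocCohBasic.subsingleton_of_supportDim_lt _ _
        ((Module.supportDim_le_ringKrullDim _ _).trans_lt (h ⟨p, inferInstance⟩ hIp))
    haveI : Subsingleton (Localization.AtPrime p ⊗[S] ((localCohomology I i).obj M)) :=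
      ((e.app M).toLinearEquiv.toEquiv.subsingleton_congr).2 hsub
    haveI : Subsingleton (LocalizedModule p.primeCompl ((localCohomology I i).obj M)) :=
      (LocalizedModule.equivTensorProduct p.primeCompl _).toEquiv.subsingleton
    obtain ⟨c, hc⟩ := (IsLocalizedModule.eq_zero_iff p.primeCompl
      (LocalizedModule.mkLinearMap p.primeCompl _) (m := y)).1 (Subsingleton.elim _ _)
    exact c.2 (hle hc)
  · obtain ⟨k, hk⟩ := LocCohBasic.exists_pow_smul_eq_zero I M y
    obtain ⟨b, hbI, hbp⟩ := SetLike.not_le_iff_exists.1 hIp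
    exact hbp (hp.isPrime.mem_of_pow_mem k (hle (hk _ (Ideal.pow_mem_pow hbI k))))

theorem subsingleton_HZM_of_dim_lt (Y : Scheme.{u}) [IsAffine Y] [IsNoetherianRing Γ(Y, ⊤)] (N : Y.Modules)
    [Coh.IsQCoh N] (U : Y.Opens) (i : ℕ)
    (h : ∀ y : Y, y ∉ (U : Set Y) → ringKrullDim (Y.presheaf.stalk y) < (i : WithBot ℕ∞)) :
    Subsingleton (LocCohZ.HZM Y N i U) := by
  classical
  haveI := noetherianSpace_of_isAffine (X := Y)
  have hY : IsAffineOpen (⊤ : Y.Opens) := isAffineOpen_top Y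
  obtain ⟨s, hs⟩ := QCohBase.exists_finset_basicOpen_eq hY (W := U) (NoetherianSpace.isCompact _) le_top
  let fs := s.toList
  have hU : (⨆ j : Fin fs.length, Y.basicOpen (fs.get j)) = U := by
    rw [hs]
    refine le_antisymm (iSup_le fun j => le_iSup₂_of_le (fs.get j) (Finset.mem_toList.1 (List.get_mem fs j)) le_rfl)
      (iSup₂_le fun g hg => ?_)
    obtain ⟨j, hj⟩ := List.get_of_mem (Finset.mem_toList.2 hg)
    exact le_iSup_of_le j (by rw [hj])
  obtain ⟨a⟩ := nonempty_koszul_HZM Y fs N i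
  have hK := KoszulCech.nonempty_H_equiv_koszulHLim fs.get (N.val.obj (op ⊤)) i
  rw [List.map_get_finRange] at hK
  obtain ⟨b⟩ := hK
  rw [hU] at a
  refine (subsingleton_iff_of_nonempty_equiv ⟨b.toAddEquiv.trans a⟩).1 ?_
  refine subsingleton_H_of_forall_dim_lt _ i (fun p hp => ?_) _
  obtain ⟨y, hy, hyp⟩ := AssPts.exists_point hY p
  obtain rfl : p = hY.primeIdealOf ⟨y, hy⟩ := PrimeSpectrum.ext hyp.symm
  have hyU : y ∉ (U : Set Y) := fun hyU => by
    rw [hs] at hyU
    simp only [Opens.coe_iSup, Set.mem_iUnion] at hyU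
    obtain ⟨g, hg, hgy⟩ := hyU
    refine (AssPts.notMem_prime_iff hY y hy g).2 ((Y.mem_basicOpen g y hy).1 hgy) (hp (Ideal.subset_span ?_))
    obtain ⟨j, hj⟩ := List.get_of_mem (Finset.mem_toList.2 hg)
    exact ⟨j, hj⟩
  letI := (Y.presheaf.germ ⊤ y hy).hom.toAlgebra
  haveI : IsLocalization.AtPrime (Y.presheaf.stalk y) (hY.primeIdealOf ⟨y, hy⟩).asIdeal := hY.isLocalization_stalk ⟨y, hy⟩
  rw [ringKrullDim_eq_of_ringEquiv
    (IsLocalization.algEquiv (hY.primeIdealOf ⟨y, hy⟩).asIdeal.primeCompl _ (Y.presheaf.stalk y)).toRingEquiv]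
  exact h y hyU

lemma subsingleton_HZ_of_dim_lt {X : Scheme.{u}} [IsLocallyNoetherian X] (U V : X.Opens) (hV : IsAffineOpen V)
    (M : X.Modules) [M.IsQuasicoherent] (i : ℕ)
    (h : ∀ x : X, x ∉ (U : Set X) → ringKrullDim (X.presheaf.stalk x) < (i : WithBot ℕ∞)) :
    Subsingleton (LocCohZ.HZ (X := X.carrier) (Coh.toAb M) i (inf_le_left : V ⊓ U ≤ V)) := by
  haveI : IsAffine V.toScheme := hV
  haveI : IsNoetherianRing Γ(V.toScheme, ⊤) :=
    IsLocallyNoetherian.component_noetherian ⟨⊤, isAffineOpen_top _⟩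
  haveI : Coh.IsQCoh (M.restrict V.ι) := Scheme.Modules.isQuasicoherent_restrictFunctor _ M
  refine (subsingleton_iff_of_nonempty_equiv ((nonempty_HZ_restr_iso (X := X.carrier) (inf_le_left : V ⊓ U ≤ V) i).map
    fun c => hzRestrEquiv (X := X.carrier) (inf_le_left : V ⊓ U ≤ V) c (Coh.toAb M))).2 ?_
  refine subsingleton_HZM_of_dim_lt V.toScheme (M.restrict V.ι) _ i fun y hy => ?_
  rw [ringKrullDim_eq_of_ringEquiv (V.stalkIso y).commRingCatIsoToRingEquiv]
  exact h _ fun hyU => hy ⟨y.2, hyU⟩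

theorem isZero_HZsh_of_dim_lt {X : Scheme.{u}} [IsLocallyNoetherian X] (U : X.Opens) (M : X.Modules)
    (hM : Coh.IsQCoh M) (i : ℕ)
    (h : ∀ x : X, x ∉ (U : Set X) → ringKrullDim (X.presheaf.stalk x) < (i : WithBot ℕ∞)) :
    IsZero ((LocCohZ.HZsh (X := X.carrier) U i).obj (Coh.toAb M)) := by
  haveI : M.IsQuasicoherent := hM
  refine isZero_HZsh_of_basis (X := X.carrier) U _ i (fun V : X.Opens => IsAffineOpen V) (fun x T hx => ?_)
    fun V hV => subsingleton_HZ_of_dim_lt U V hV M i h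
  obtain ⟨_, ⟨(V : X.Opens), hV, rfl⟩, hxV, hle⟩ :=
    X.isBasis_affineOpens.exists_subset_of_mem_open (show x ∈ (T : Set X) from hx) T.isOpen
  exact ⟨V, hle, hxV, hV⟩

end Groth.Agent.LocCohZSS
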