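import Groth.Agent.LocCohZSS.Depth
import Groth.Agent.TensorMod.FinLocFree
import Groth.Agent.FinLocFreeSections.Basic
import Groth.Agent.ZClosLib.Depth
import Groth.Agent.LocDuality.Duality

/-!
# The first non-vanishing local cohomology sheaf
-/

set_option autoImplicit false
set_option linter.style.haveILetI false

noncomputable section

universe u

open CategoryTheory Limits TopologicalSpace Opposite

namespace Groth.Agent.LocCohZSS

open LocCohZLib

variable {X : TopCat.{u}} (U : Opens X)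

lemma subsingleton_HZc_of_inf (F : CohTop.Ab X) (i : ℕ)
    (h : Subsingleton (LocCohZ.HZ F i (inf_le_left : (⊤ : Opens X) ⊓ U ≤ ⊤))) :
    Subsingleton (LocCohZ.HZc F i U) := by
  have key : ∀ (W : Opens X) (hW : W ≤ ⊤), W = U → Subsingleton (LocCohZ.HZ F i hW) →
      Subsingleton (LocCohZ.HZc F i U) := by
    rintro W hW rfl h
    exact h
  exact key _ _ (top_inf_eq U) h

/-- if the sheaves vanish below `d`, the sections of the `d`-th one are the `d`-th group -/
theorem nonempty_sections_HZsh_equiv (d : ℕ) : ∀ F : CohTop.Ab X,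
    (∀ i < d, IsZero ((LocCohZ.HZsh U i).obj F)) →
      Nonempty (((LocCohZ.HZsh U d).obj F).obj.obj (op ⊤) ≃+ LocCohZ.HZc F d U) := by
  induction d with
  | zero =>
    intro F _
    exact ⟨(((sheafToPresheaf _ _ ⋙ (evaluation _ AddCommGrpCat.{u}).obj (op ⊤)).mapIso
      ((LocCohZ.sectSuppF U).rightDerivedZeroIsoSelf.app F)).addCommGroupIsoToAddEquiv).trans
        ((gammaSectEquiv U F).trans (LocCohZ.sect0Equiv F (le_top : U ≤ ⊤)).symm)⟩
  | succ d ih =>
    intro F h
    obtain ⟨J, Q, f, g, w, hT, hJZ, hJsh⟩ :=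
      exists_shift U F ((isZero_HZsh_zero_iff U F).1 (h 0 (Nat.succ_pos d)))
    have hQ : ∀ i < d, IsZero ((LocCohZ.HZsh U i).obj Q) := fun i hi =>
      ShortComplex.Exact.isZero_of_both_zeros
        ((RDerLES.derivedLES (LocCohZ.sectSuppF U)).exact₃ _ hT i (i + 1) rfl)
        ((hJsh i).eq_of_src _ _) ((h (i + 1) (Nat.succ_lt_succ hi)).eq_of_tgt _ _)
    obtain ⟨e⟩ := ih Q hQ
    let D := RDerLES.derivedLES (LocCohZ.sectSuppF U)
    haveI : Mono (D.δ (ShortComplex.mk f g w) hT d (d + 1) rfl) :=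
      (D.exact₃ _ hT d (d + 1) rfl).mono_g ((hJsh d).eq_of_src _ _)
    haveI : Epi (D.δ (ShortComplex.mk f g w) hT d (d + 1) rfl) :=
      (D.exact₁ _ hT d (d + 1) rfl).epi_f ((hJsh (d + 1)).eq_of_tgt _ _)
    haveI := isIso_of_mono_of_epi (D.δ (ShortComplex.mk f g w) hT d (d + 1) rfl)
    exact ⟨((((sheafToPresheaf _ _ ⋙ (evaluation _ AddCommGrpCat.{u}).obj (op ⊤)).mapIso
      (asIso (D.δ (ShortComplex.mk f g w) hT d (d + 1) rfl))).addCommGroupIsoToAddEquiv).symm.trans e).trans
        (AddEquiv.ofBijective (hzDelta (le_top : U ≤ ⊤) hT d)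
          (hzDelta_bijective _ hT (fun i => subsingleton_HZc_of_inf U J i (hJZ i ⊤)) d))⟩

open AlgebraicGeometry in
theorem le_depth_stalk_of_isFinLocFree {Y : Scheme.{u}} [IsLocallyNoetherian Y] (M : Y.Modules)
    (hM : FlatMod.IsFinLocFree M) (x : Y) (d : ℕ)
    (h : (d : ℕ∞) ≤ LocCoh.depth (Y.presheaf.stalk x) (Y.presheaf.stalk x)) :
    (d : ℕ∞) ≤ LocCoh.depth (Y.presheaf.stalk x) (M.presheaf.stalk x) := by
  haveI := FinLocFreeSections.flat_stalk M hM x
  haveI := ZClosLib.finite_stalk M (TensorMod.isCoh_of_isFinLocFree hM) x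
  haveI : Module.Free (Y.presheaf.stalk x) (M.presheaf.stalk x) := Module.free_of_flat_of_isLocalRing
  rw [Depth.depth_congr (Module.finBasis (Y.presheaf.stalk x) (M.presheaf.stalk x)).equivFun]
  refine (LocCohBasic.le_idealDepth_iff_subsingleton (IsLocalRing.maximalIdeal _)
    (ModuleCat.of _ (Fin _ → Y.presheaf.stalk x))).mpr fun i hi => ?_
  exact LocDuality.subsingleton_pi _ ((LocCohBasic.le_idealDepth_iff_subsingleton (IsLocalRing.maximalIdeal _)
    (ModuleCat.of _ (Y.presheaf.stalk x))).mp h i hi) _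

end Groth.Agent.LocCohZSS
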