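import Mathlib.CategoryTheory.Abelian.Injective.Ext
import Mathlib.CategoryTheory.Abelian.RightDerived
import Mathlib.CategoryTheory.Preadditive.Yoneda.Basic
import Mathlib.Algebra.Category.Grp.Abelian
import Mathlib.CategoryTheory.Abelian.FunctorCategory
import Mathlib.CategoryTheory.Limits.FunctorCategory.EpiMono
import Mathlib.Algebra.Category.Grp.EpiMono
import Mathlib.Algebra.Homology.ShortComplex.Ab

/-!
# Presheaves of Ext groups through an injective resolution
-/

noncomputable section

universe v v' u u'

open CategoryTheory Limits Opposite CategoryTheory.Abelian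

namespace Groth.Agent.LocCohZSS

variable {C : Type u} [Category.{v} C] [Abelian C] [HasExt.{v} C] {D : Type u'} [Category.{v'} D] (c : D ⥤ C)

/-- the functor to the presheaf of homomorphisms out of a family of objects -/
abbrev homPre : C ⥤ Dᵒᵖ ⥤ AddCommGrpCat.{v} :=
  preadditiveYoneda ⋙ (Functor.whiskeringLeft _ _ AddCommGrpCat.{v}).obj c.op

instance homPre_additive : (homPre c).Additive where
  map_add {A B f g} := by
    ext T a
    exact Preadditive.comp_add _ _ _ a f g

/-- the presheaf of Ext groups out of a family of objects -/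
abbrev extPre (n : ℕ) (F : C) : Dᵒᵖ ⥤ AddCommGrpCat.{v} := c.op ⋙ (extFunctor n).flip.obj F

variable {F : C} (R : InjectiveResolution F) (n : ℕ)

/-- the complex of presheaves -/
abbrev homPreCx : CochainComplex (Dᵒᵖ ⥤ AddCommGrpCat.{v}) ℕ :=
  ((homPre c).mapHomologicalComplex _).obj R.cocomplex

/-- the morphism underlying a cycle -/
def cycHom (T : D) (z : ((homPreCx c R).cycles n).obj (op T)) : c.obj T ⟶ R.cocomplex.X n :=
  ((homPreCx c R).iCycles n).app (op T) z

lemma cycHom_d (T : D) (z : ((homPreCx c R).cycles n).obj (op T)) :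
    cycHom c R n T z ≫ R.cocomplex.d n (n + 1) = 0 :=
  (ConcreteCategory.congr_hom (congrArg (fun m => NatTrans.app m (op T))
    ((homPreCx c R).iCycles_d n (n + 1))) z)

lemma extMk_congr' {X : C} {f g : X ⟶ R.cocomplex.X n} (hf : f ≫ R.cocomplex.d n (n + 1) = 0)
    (hg : g ≫ R.cocomplex.d n (n + 1) = 0) (h : f = g) : R.extMk f (n + 1) rfl hf = R.extMk g (n + 1) rfl hg := by
  subst h
  rfl

/-- the class of a cycle -/
def cycExt (T : D) : ((homPreCx c R).cycles n).obj (op T) →+ Ext.{v} (c.obj T) F n :=
  AddMonoidHom.mk' (fun z => R.extMk (cycHom c R n T z) (n + 1) rfl (cycHom_d c R n T z)) fun a b => by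
    refine Eq.trans ?_ (R.add_extMk _ _ _ rfl (cycHom_d c R n T a) (cycHom_d c R n T b)).symm
    exact extMk_congr' R n _ _ (map_add _ a b)

/-- from cycles to Ext -/
def cycToExt : (homPreCx c R).cycles n ⟶ extPre c n F where
  app T := AddCommGrpCat.ofHom (cycExt c R n T.unop)
  naturality T T' g := by
    ext z
    refine Eq.trans ?_ (R.mk₀_comp_extMk _ (n + 1) rfl (cycHom_d c R n T.unop z) (c.map g.unop)).symm
    exact extMk_congr' R n (cycHom_d c R n _ _) _
      (ConcreteCategory.congr_hom (((homPreCx c R).iCycles n).naturality g) z)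

lemma toCycles_cycToExt (k : ℕ) (hk : (ComplexShape.up ℕ).prev n = k) :
    (homPreCx c R).toCycles k n ≫ cycToExt c R n = 0 := by
  ext T x
  change cycExt c R n T.unop (((homPreCx c R).toCycles k n).app T x) = 0
  obtain rfl | ⟨p, rfl⟩ : n = 0 ∨ ∃ p, n = p + 1 := by cases n <;> simp
  · have : (homPreCx c R).toCycles k 0 = 0 := by
      rw [← cancel_mono ((homPreCx c R).iCycles 0), HomologicalComplex.toCycles_i, zero_comp]
      exact (homPreCx c R).shape _ _ (by simp)
    rw [this]
    exact (cycExt c R 0 T.unop).map_zero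
  · obtain rfl : p = k := by
      rw [← hk, CochainComplex.prev_nat_succ]
    refine (R.extMk_eq_zero_iff _ _ rfl (cycHom_d c R (p + 1) T.unop _) p rfl).2 ⟨x, ?_⟩
    exact (ConcreteCategory.congr_hom (congrArg (fun m => NatTrans.app m T)
      ((homPreCx c R).toCycles_i p (p + 1))) x).symm

/-- from homology to Ext -/
def homToExt : (homPreCx c R).homology n ⟶ extPre c n F :=
  (CokernelCofork.IsColimit.desc' ((homPreCx c R).homologyIsCokernel _ n rfl) (cycToExt c R n)
    (toCycles_cycToExt c R n _ rfl)).1

lemma homologyπ_homToExt : (homPreCx c R).homologyπ n ≫ homToExt c R n = cycToExt c R n :=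
  (CokernelCofork.IsColimit.desc' ((homPreCx c R).homologyIsCokernel _ n rfl) (cycToExt c R n)
    (toCycles_cycToExt c R n _ rfl)).2

lemma homToExt_bijective (T : D) : Function.Bijective ((homToExt c R n).app (op T)) := by
  have hπ : Function.Surjective (((homPreCx c R).homologyπ n).app (op T)) :=
    (AddCommGrpCat.epi_iff_surjective _).1 (NatTrans.epi_iff_epi_app _ |>.1 inferInstance (op T))
  have hcomp : ∀ z, (homToExt c R n).app (op T) (((homPreCx c R).homologyπ n).app (op T) z) =
      cycExt c R n T z := fun z =>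
    ConcreteCategory.congr_hom (congrArg (fun m => NatTrans.app m (op T)) (homologyπ_homToExt c R n)) z
  have hi : Function.Injective (((homPreCx c R).iCycles n).app (op T)) :=
    (AddCommGrpCat.mono_iff_injective _).1 (NatTrans.mono_iff_mono_app _ |>.1 inferInstance (op T))
  constructor
  · refine (injective_iff_map_eq_zero _).2 fun a ha => ?_
    obtain ⟨z, rfl⟩ := hπ a
    rw [hcomp] at ha
    obtain rfl | ⟨p, rfl⟩ : n = 0 ∨ ∃ p, n = p + 1 := by cases n <;> simp
    · have hφ : cycHom c R 0 T z = 0 := by
        have h := congrArg R.extEquivCohomologyClass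
          (show R.extMk (cycHom c R 0 T z) (0 + 1) rfl (cycHom_d c R 0 T z) = 0 from ha)
        rw [InjectiveResolution.extEquivCohomologyClass_extMk,
          InjectiveResolution.extEquivCohomologyClass_zero,
          CochainComplex.HomComplex.CohomologyClass.mk_eq_zero_iff,
          CochainComplex.HomComplex.Cocycle.fromSingleMk_mem_coboundaries_iff _ _ _ _ _ (-1)
            (by omega)] at h
        obtain ⟨g, hg⟩ := h
        have hg0 : g = 0 := (R.cochainComplex.isZero_of_isStrictlyGE 0 (-1) (by omega)).eq_of_tgt _ _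
        rw [hg0, zero_comp] at hg
        exact (cancel_mono (R.cochainComplexXIso 0 0 rfl).inv).1 (hg.symm.trans zero_comp.symm)
      rw [show z = 0 from hi (hφ.trans (map_zero _).symm), map_zero]
    · obtain ⟨g, hg⟩ := (R.extMk_eq_zero_iff _ _ rfl (cycHom_d c R (p + 1) T z) p rfl).1 ha
      have hz : z = ((homPreCx c R).toCycles p (p + 1)).app (op T) g := by
        apply hi
        refine hg.symm.trans ?_
        exact (ConcreteCategory.congr_hom (congrArg (fun m => NatTrans.app m (op T))
          ((homPreCx c R).toCycles_i p (p + 1))) g).symm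
      rw [hz]
      exact (ConcreteCategory.congr_hom (congrArg (fun m => NatTrans.app m (op T))
        ((homPreCx c R).toCycles_comp_homologyπ p (p + 1))) g)
  · intro α
    obtain ⟨φ, hφ, rfl⟩ := R.extMk_surjective α (n + 1) rfl
    let S := ShortComplex.mk ((homPreCx c R).iCycles n) ((homPreCx c R).d n (n + 1))
      ((homPreCx c R).iCycles_d n (n + 1))
    have hS : S.Exact :=
      ShortComplex.exact_of_f_is_kernel _ ((homPreCx c R).cyclesIsKernel n (n + 1) (by simp))
    obtain ⟨z, hz⟩ := (ShortComplex.ab_exact_iff _).1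
      (hS.map ((evaluation Dᵒᵖ AddCommGrpCat.{v}).obj (op T))) φ hφ
    refine ⟨((homPreCx c R).homologyπ n).app (op T) z, (hcomp z).trans ?_⟩
    exact extMk_congr' R n (cycHom_d c R n T z) hφ hz

/-- The homology of the complex of homomorphism presheaves is the presheaf of Ext groups. -/
def extPreIso : (homPreCx c R).homology n ≅ extPre c n F :=
  have : ∀ T, IsIso ((homToExt c R n).app T) := fun T =>
    (ConcreteCategory.isIso_iff_bijective _).2 (homToExt_bijective c R n T.unop)
  have : IsIso (homToExt c R n) := NatIso.isIso_of_isIso_app _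
  asIso (homToExt c R n)

theorem nonempty_rightDerived_comp_homPre {E : Type*} [Category* E] [Abelian E] [HasInjectiveResolutions C]
    (L : (Dᵒᵖ ⥤ AddCommGrpCat.{v}) ⥤ E) [L.Additive] [PreservesFiniteLimits L] [PreservesFiniteColimits L]
    (G : C ⥤ E) [G.Additive] (e : G ≅ homPre c ⋙ L) (F : C) (n : ℕ) :
    Nonempty ((G.rightDerived n).obj F ≅ L.obj (extPre c n F)) := by
  let R := injectiveResolution F
  exact ⟨R.isoRightDerivedObj G n ≪≫
    (HomologicalComplex.homologyFunctor _ _ n).mapIso ((NatIso.mapHomologicalComplex e _).app R.cocomplex) ≪≫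
    ((homPreCx c R).sc n).mapHomologyIso L ≪≫ L.mapIso (extPreIso c R n)⟩

end Groth.Agent.LocCohZSS
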