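import Groth.Agent.LocCohZSS.Koszul

/-!
# Flasqueness of quasi-coherent sheaves and Koszul cohomology
-/

set_option autoImplicit false
set_option linter.style.haveILetI false

noncomputable section

universe u

open CategoryTheory Limits AlgebraicGeometry Opposite TopologicalSpace

namespace Groth.Agent.LocCohZSS

open CohTopLib LocCohZLib

lemma surjective_res_top_of_subsingleton {X : TopCat.{u}} (F : CohTop.Ab X) (U : Opens X)
    (h : Subsingleton (LocCohZ.HZc F 1 U)) :
    Function.Surjective (QCohBase.res F.obj (le_top : U ≤ ⊤)) := fun s => by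
  obtain ⟨x, hx⟩ := exists_res_eq (le_top : U ≤ ⊤) F 0 ((hu0 F U).symm s) (h.elim _ _)
  exact ⟨hu0 F ⊤ x, (hu0_res _ x).symm.trans ((congrArg _ hx).trans ((hu0 F U).apply_symm_apply s))⟩

lemma isFlasque_of_surjective_top {X : TopCat.{u}} (F : CohTop.Ab X)
    (h : ∀ U : Opens X, Function.Surjective (QCohBase.res F.obj (le_top : U ≤ ⊤))) :
    TopCat.Sheaf.IsFlasque F :=
  ⟨fun {A B} i => (AddCommGrpCat.epi_iff_surjective _).2 fun s => by
    obtain ⟨t, rfl⟩ := h B.unop s
    exact ⟨QCohBase.res F.obj le_top t, QCohBase.res_res F.obj le_top i.unop.le t⟩⟩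

theorem isFlasque_tilde_iff (A : Type u) [CommRing A] [NoetherianSpace (PrimeSpectrum A)] (M : Type u)
    [AddCommGroup M] [Module A M] :
    (TopCat.Sheaf.IsFlasque (Coh.toAb (AlgebraicGeometry.tilde (R := CommRingCat.of A) (ModuleCat.of A M))) ↔
      ∀ fs : List A, Subsingleton (CohIII.koszulHLim fs (ModuleCat.of A M) 1)) ∧
    (TopCat.Sheaf.IsFlasque (Coh.toAb (AlgebraicGeometry.tilde (R := CommRingCat.of A) (ModuleCat.of A M))) →
      ∀ (fs : List A) (i : ℕ), 0 < i → Subsingleton (CohIII.koszulHLim fs (ModuleCat.of A M) i)) := by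
  classical
  let F := Coh.toAb (AlgebraicGeometry.tilde (R := CommRingCat.of A) (ModuleCat.of A M))
  have hvan : TopCat.Sheaf.IsFlasque F → ∀ (fs : List A) (i : ℕ), 0 < i →
      Subsingleton (CohIII.koszulHLim fs (ModuleCat.of A M) i) := fun hF fs i hi => by
    obtain ⟨e⟩ := nonempty_koszul_tilde A fs M i
    obtain ⟨j, rfl⟩ : ∃ j, i = j + 1 := ⟨i - 1, by omega⟩
    haveI := hF
    haveI := subsingleton_HZ_of_isFlasque (X := (Spec (CommRingCat.of A)).carrier)
      (le_top : LocCoh.puncturedOpen A (Ideal.span {a | a ∈ fs}) ≤ ⊤) F j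
    exact e.toEquiv.subsingleton
  refine ⟨⟨fun hF fs => hvan hF fs 1 one_pos, fun h => ?_⟩, hvan⟩
  refine isFlasque_of_surjective_top F fun U => surjective_res_top_of_subsingleton F U ?_
  obtain ⟨I, hI, hIU⟩ := PrimeSpectrum.isCompact_isOpen_iff_ideal.1
    (⟨NoetherianSpace.isCompact _, U.isOpen⟩ : IsCompact (X := PrimeSpectrum A) (SetLike.coe U) ∧ IsOpen (X := PrimeSpectrum A) (SetLike.coe U))
  obtain ⟨s, rfl⟩ := hI
  have hU : LocCoh.puncturedOpen A (Ideal.span {a | a ∈ s.toList}) = U := by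
    refine Opens.ext ?_
    rw [show {a | a ∈ s.toList} = (s : Set A) from Set.ext fun a => Finset.mem_toList]
    exact hIU
  obtain ⟨e⟩ := nonempty_koszul_tilde A s.toList M 1
  rw [hU] at e
  haveI := h s.toList
  exact e.symm.toEquiv.subsingleton

end Groth.Agent.LocCohZSS
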