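import Groth.Agent.LocCohZSS.QCoh
import Groth.Agent.LocCohZSS.Basic
import Groth.Prelude.Def_SuppFam
import Groth.Agent.FlasqueAcyclic.Compare

/-!
# Supports in a locally closed subset
-/

noncomputable section

universe u

open CategoryTheory Limits TopologicalSpace Opposite

namespace Groth.Agent.LocCohZSS

open QCohBase CohTopLib LocCohZLib

section Top

variable {X : TopCat.{u}}

lemma epi_of_surjective_sections {F G : CohTop.Ab X} (φ : F ⟶ G)
    (h : ∀ T : Opens X, Function.Surjective (φ.hom.app (op T))) : Epi φ := by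
  refine (CategoryTheory.Sheaf.isLocallySurjective_iff_epi' (φ := φ)).1 ?_
  refine (TopCat.Presheaf.isLocallySurjective_iff φ.hom).2 fun T s y hy => ?_
  obtain ⟨t, rfl⟩ := h T s
  refine ⟨T, le_rfl, ⟨t, ?_⟩, hy⟩
  exact (res_refl G.obj _ _).symm

lemma sectSupp_surjective (U : Opens X) {S : ShortComplex (CohTop.Ab X)} (hS : S.ShortExact)
    [TopCat.Sheaf.IsFlasque S.X₁] (T : Opens X) :
    Function.Surjective (((LocCohZ.sectSuppF U).map S.g).hom.app (op T)) := by
  intro s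
  obtain ⟨t, ht⟩ := (AddCommGrpCat.epi_iff_surjective _).1
    (TopCat.Sheaf.IsFlasque.epi_of_shortExact hS (U := T)) (sSupp U S.X₃ T s)
  let E : CohTop.Ab X ⥤ AddCommGrpCat.{u} :=
    sheafToPresheaf (Opens.grothendieckTopology X) AddCommGrpCat.{u} ⋙
      (evaluation _ AddCommGrpCat.{u}).obj (op (T ⊓ U))
  haveI := hS.mono_f
  haveI : E.PreservesZeroMorphisms := inferInstance
  have hlf := ((ShortComplex.exact_and_mono_f_iff_f_is_kernel (S.map E)).2
    ⟨KernelFork.mapIsLimit _ hS.fIsKernel E⟩)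
  obtain ⟨a, ha⟩ := (ShortComplex.ab_exact_iff _).1 hlf.1
    (QCohBase.res S.X₂.obj (inf_le_left : T ⊓ U ≤ T) t) (by
      refine (nat_res S.X₂.obj S.g.hom (inf_le_left : T ⊓ U ≤ T) t).symm.trans ?_
      exact (congrArg _ ht).trans (res_sSupp U S.X₃ s))
  obtain ⟨a', ha'⟩ := (AddCommGrpCat.epi_iff_surjective _).1
    (TopCat.Presheaf.IsFlasque.epi (F := S.X₁.obj) (homOfLE (inf_le_left : T ⊓ U ≤ T)).op) a
  obtain ⟨u, hu⟩ := (exists_sSupp_iff U S.X₂ (t - S.f.hom.app (op T) a')).2 (by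
    rw [map_sub, sub_eq_zero]
    refine ha.symm.trans ((congrArg (S.f.hom.app (op (T ⊓ U))) ha'.symm).trans ?_)
    exact (nat_res S.X₁.obj S.f.hom (inf_le_left : T ⊓ U ≤ T) a').symm)
  refine ⟨u, sSupp_injective U S.X₃ T ((sSupp_nat U S.g T u).trans ?_)⟩
  rw [hu, map_sub, ← ht, sub_eq_self]
  exact ConcreteCategory.congr_hom (congrArg (fun m : S.X₁ ⟶ S.X₃ => m.hom.app (op T)) S.zero) a'

variable {W V : Opens X} (h : W ≤ V)

instance preservesFiniteLimits_sectSuppLC : PreservesFiniteLimits (SuppFam.sectSuppLC h) := by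
  haveI := preservesFiniteLimits_restr V
  haveI := LocCohZLib.preservesFiniteLimits_sectSuppF (SuppFam.inOpen V W)
  haveI := preservesFiniteLimits_push (CohCx.incl V)
  exact @comp_preservesFiniteLimits _ _ _ _ _ _ _ _ inferInstance (comp_preservesFiniteLimits _ _)

/-- flasque sheaves are acyclic for sections with locally closed support -/
theorem isZero_HZshLC_of_isFlasque (F : CohTop.Ab X) [TopCat.Sheaf.IsFlasque F] (n : ℕ) :
    IsZero ((SuppFam.HZshLC h (n + 1)).obj F) := by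
  refine QCohBase.isZero_rightDerived_obj_of_class (SuppFam.sectSuppLC h) (fun A => TopCat.Sheaf.IsFlasque A)
    (fun e hA => @isFlasque_of_iso _ _ _ e hA) (fun {T} hT h1 h2 => ?_) (fun {T} hT h1 => ?_) (‹_› : TopCat.Sheaf.IsFlasque F) n
  · haveI := h1
    haveI := FlasqueAcyclic.isFlasque_of_injective T.X₂
    exact TopCat.Sheaf.IsFlasque.of_shortExact_of_isFlasque₁₂ hT
  · haveI := h1
    haveI := preservesFiniteLimits_restr V
    haveI := preservesFiniteColimits_restr V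
    have hT' : (T.map (CohTop.restrFunctor V)).ShortExact := hT.map_of_exact _
    haveI : TopCat.Sheaf.IsFlasque (T.map (CohTop.restrFunctor V)).X₁ := isFlasque_restr V T.X₁
    exact epi_of_surjective_sections _ fun S =>
      sectSupp_surjective (SuppFam.inOpen V W) hT' ((Opens.map (CohCx.incl V)).obj S)

/-- sections of the sheaf of sections with locally closed support -/
def lcSect (F : CohTop.Ab X) (T : Opens X) :
    ((SuppFam.sectSuppLC h).obj F).obj.obj (op T) →+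
      F.obj.obj (op (V.isOpenEmbedding.isOpenMap.functor.obj ((Opens.map (CohCx.incl V)).obj T))) :=
  sSupp (SuppFam.inOpen V W) (CohTop.restr F V) ((Opens.map (CohCx.incl V)).obj T)

end Top

section Scheme

open AlgebraicGeometry

variable {Y : Scheme.{u}} {V₂ V₁ : Y.Opens}

variable (V₂ V₁) in
/-- module version -/
abbrev lcFun : Y.Modules ⥤ Y.Modules := rpFun V₁.ι ⋙ DCoh.gammaZ V₂.ι

/-- the open over which the sections are taken -/
abbrev lcOpen (V₁ T : Y.Opens) : Y.Opens := V₁.ι ''ᵁ V₁.ι ⁻¹ᵁ T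

/-- sections of the module version -/
def modSect (M : Y.Modules) (T : Y.Opens) :
    (Coh.toAb ((lcFun V₂ V₁).obj M)).obj.obj (op T) →+ (Coh.toAb M).obj.obj (op (lcOpen V₁ T)) :=
  (((FlasqueAcyclic.toAbF Y).map ((iotaM V₂.ι).app ((rpFun V₁.ι).obj M))).hom.app (op T)).hom

lemma modSect_props (M : Y.Modules) (T : Y.Opens) :
    Function.Injective (modSect (V₂ := V₂) (V₁ := V₁) M T) ∧
    ∀ s, (∃ t, modSect (V₂ := V₂) M T t = s) ↔
      QCohBase.res (Coh.toAb M).obj (V₁.ι.image_mono (V₁.ι.preimage_mono (V₂.ι.image_preimage_le T))) s = 0 := by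
  let Z : ShortComplex Y.Modules := ShortComplex.mk ((iotaM V₂.ι).app ((rpFun V₁.ι).obj M))
    ((etaM V₂.ι).app ((rpFun V₁.ι).obj M)) (kernel.condition _)
  haveI : Mono Z.f := inferInstanceAs (Mono (kernel.ι _))
  have hex : Z.Exact := ShortComplex.exact_of_f_is_kernel _ (kernelIsKernel _)
  let E : Y.Modules ⥤ AddCommGrpCat.{u} := FlasqueAcyclic.toAbF Y ⋙
    sheafToPresheaf (Opens.grothendieckTopology Y.toTopCat) AddCommGrpCat.{u} ⋙
      (evaluation _ AddCommGrpCat.{u}).obj (op T)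
  haveI : E.PreservesZeroMorphisms := inferInstance
  have hlf := ((ShortComplex.exact_and_mono_f_iff_f_is_kernel (Z.map E)).2
    ⟨KernelFork.mapIsLimit _ hex.fIsKernel E⟩)
  refine ⟨(AddCommGrpCat.mono_iff_injective _).1 hlf.2, fun s => ⟨?_, fun hs => ?_⟩⟩
  · rintro ⟨t, rfl⟩
    exact ConcreteCategory.congr_hom (congrArg (fun m : Z.X₁ ⟶ Z.X₃ =>
      ((FlasqueAcyclic.toAbF Y).map m).hom.app (op T)) Z.zero) t
  · exact (ShortComplex.ab_exact_iff _).1 hlf.1 s hs

lemma exists_lcSect_iff (hle : V₂ ≤ V₁) (M : Y.Modules) (T : Y.Opens) (s : (Coh.toAb M).obj.obj (op (lcOpen V₁ T))) :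
    (∃ t, lcSect (X := Y.carrier) hle (Coh.toAb M) T t = s) ↔
      ∃ t, modSect (V₂ := V₂) M T t = s := by
  have hs : ∀ (O O' : Y.Opens) (h₁ : O ≤ lcOpen V₁ T) (h₂ : O' ≤ lcOpen V₁ T), O' ≤ O →
      QCohBase.res (Coh.toAb M).obj h₁ s = 0 → QCohBase.res (Coh.toAb M).obj h₂ s = 0 := fun O O' h₁ h₂ hO e => by
    rw [← res_res (Coh.toAb M).obj h₁ hO s, e, map_zero]
  refine (exists_sSupp_iff _ _ _).trans (Iff.trans ?_ ((modSect_props M T).2 s).symm)
  constructor <;> refine hs _ _ _ _ ?_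
  · rintro x ⟨y, hy, rfl⟩
    obtain ⟨z, hz, hzy⟩ := hy
    have e : z.1 = y.1 := hzy
    exact ⟨y, ⟨show y.1 ∈ (T : Set Y) from e ▸ hz, show y.1 ∈ (V₂ : Set Y) from e ▸ z.2⟩, rfl⟩
  · rintro x ⟨y, ⟨hT, hW⟩, rfl⟩
    exact ⟨y, ⟨⟨y.1, hW⟩, hT, rfl⟩, rfl⟩

/-- comparison on sections -/
def lcEquiv (hle : V₂ ≤ V₁) (M : Y.Modules) (T : Y.Opens) :
    ((SuppFam.sectSuppLC (X := Y.carrier) hle).obj (Coh.toAb M)).obj.obj (op T) ≃+
      (Coh.toAb ((lcFun V₂ V₁).obj M)).obj.obj (op T) :=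
  (AddMonoidHom.ofInjective (f := lcSect (X := Y.carrier) hle (Coh.toAb M) T)
      (sSupp_injective _ _ _)).trans
    ((AddEquiv.addSubgroupCongr (AddSubgroup.ext fun s => exists_lcSect_iff hle M T s)).trans
      (AddMonoidHom.ofInjective (f := modSect (V₂ := V₂) M T) (modSect_props M T).1).symm)

lemma modSect_lcEquiv (hle : V₂ ≤ V₁) (M : Y.Modules) (T : Y.Opens) (x) :
    modSect M T (lcEquiv hle M T x) = lcSect (X := Y.carrier) hle (Coh.toAb M) T x :=
  congrArg Subtype.val ((AddMonoidHom.ofInjective (f := modSect (V₂ := V₂) M T) (modSect_props M T).1).apply_symm_apply _)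

/-- the comparison -/
def lcIso (hle : V₂ ≤ V₁) : FlasqueAcyclic.toAbF Y ⋙ SuppFam.sectSuppLC (X := Y.carrier) hle ≅
    lcFun V₂ V₁ ⋙ FlasqueAcyclic.toAbF Y :=
  NatIso.ofComponents (fun M => (fullyFaithfulSheafToPresheaf _ _).preimageIso
      (NatIso.ofComponents (fun T => (lcEquiv hle M T.unop).toAddCommGrpIso) fun {T T'} i => by
        refine AddCommGrpCat.ext fun x => (modSect_props M T'.unop).1 ?_
        refine (modSect_lcEquiv hle M T'.unop _).trans ?_
        refine (sSupp_res _ _ _ x).trans ?_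
        refine Eq.trans ?_ (nat_res (Coh.toAb ((lcFun V₂ V₁).obj M)).obj
          ((FlasqueAcyclic.toAbF Y).map ((iotaM V₂.ι).app ((rpFun V₁.ι).obj M))).hom i.unop.le
          (lcEquiv hle M T.unop x))
        exact congrArg _ (modSect_lcEquiv hle M T.unop x).symm))
    fun {M N} φ => by
      refine CategoryTheory.Sheaf.hom_ext (NatTrans.ext (funext fun T => AddCommGrpCat.ext fun x => ?_))
      refine (modSect_props N T.unop).1 ((modSect_lcEquiv hle N T.unop _).trans ?_)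
      refine (sSupp_nat _ _ _ x).trans ?_
      refine Eq.trans ?_ (ConcreteCategory.congr_hom (congrArg (fun m : (lcFun V₂ V₁).obj M ⟶ (rpFun V₁.ι).obj N =>
        ((FlasqueAcyclic.toAbF Y).map m).hom.app (op T.unop)) ((iotaM V₂.ι).naturality ((rpFun V₁.ι).map φ)))
          (lcEquiv hle M T.unop x)).symm
      exact congrArg _ (modSect_lcEquiv hle M T.unop x).symm

lemma epi_etaM_rpFun (V₂ V₁ : Y.Opens) (I : Y.Modules) (hI : Injective I) :
    Epi ((etaM V₂.ι).app ((rpFun V₁.ι).obj I)) := by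
  haveI := @FlasqueAcyclic.isFlasque_toAb Y I hI
  refine (SheafOfModules.toSheaf Y.ringCatSheaf).epi_of_epi_map ?_
  exact epi_of_surjective_sections (X := Y.carrier) _ fun T => (AddCommGrpCat.epi_iff_surjective _).1
    (TopCat.Presheaf.IsFlasque.epi (F := (Coh.toAb I).obj)
      (homOfLE (V₁.ι.image_mono (V₁.ι.preimage_mono (V₂.ι.image_preimage_le T)))).op)

lemma isIso_rpFun_unit (hle : V₂ ≤ V₁) : IsIso (Functor.whiskerRight (etaM V₁.ι) (rpFun V₂.ι)) := by
  have : ∀ N : Y.Modules, IsIso ((Functor.whiskerRight (etaM V₁.ι) (rpFun V₂.ι)).app N) := by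
    intro N
    rw [Scheme.Modules.Hom.isIso_iff_isIso_app]
    intro T
    change IsIso (((Scheme.Modules.restrictAdjunction V₁.ι).unit.app N).app (V₂.ι ''ᵁ V₂.ι ⁻¹ᵁ T))
    rw [Scheme.Modules.restrictAdjunction_unit_app_app]
    have hT : V₁.ι ''ᵁ V₁.ι ⁻¹ᵁ (V₂.ι ''ᵁ V₂.ι ⁻¹ᵁ T) = V₂.ι ''ᵁ V₂.ι ⁻¹ᵁ T := by
      rw [Scheme.Hom.image_preimage_eq_opensRange_inf, Scheme.Opens.opensRange_ι]
      exact inf_eq_right.2 ((V₂.ι_image_le _).trans hle)
    haveI : IsIso (homOfLE (V₁.ι.image_preimage_le (V₂.ι ''ᵁ V₂.ι ⁻¹ᵁ T))) :=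
      ⟨eqToHom hT.symm, Subsingleton.elim _ _, Subsingleton.elim _ _⟩
    exact Functor.map_isIso N.presheaf _
  exact NatIso.isIso_of_isIso_app _

instance gammaZ_additive' : (lcFun V₂ V₁).Additive := inferInstance

theorem exists_isQCoh_iso (hle : V₂ ≤ V₁) [QuasiCompact V₁.ι] [QuasiCompact V₂.ι] (F : Y.Modules) (hF : Coh.IsQCoh F)
    (i : ℕ) : ∃ M : Y.Modules, Coh.IsQCoh M ∧
      Nonempty (Coh.toAb M ≅ (SuppFam.HZshLC (X := Y.carrier) hle i).obj (Coh.toAb F)) := by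
  haveI hq : F.IsQuasicoherent := hF
  let I := injectiveResolution F
  let ι' : lcFun V₂ V₁ ⟶ rpFun V₁.ι := Functor.whiskerLeft (rpFun V₁.ι) (iotaM V₂.ι) ≫ (rpFun V₁.ι).rightUnitor.hom
  let π' : rpFun V₁.ι ⟶ rpFun V₁.ι ⋙ rpFun V₂.ι := (rpFun V₁.ι).rightUnitor.inv ≫ Functor.whiskerLeft (rpFun V₁.ι) (etaM V₂.ι)
  have hzero : ι' ≫ π' = 0 := NatTrans.ext (funext fun M => by
    simp [ι', π']
    exact kernel.condition _)
  have hex : ∀ J : Y.Modules, Injective J → (ThreeTerm.seqAt ι' π' hzero J).ShortExact := fun J hJ => by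
    let T : ShortComplex Y.Modules := ShortComplex.mk ((iotaM V₂.ι).app ((rpFun V₁.ι).obj J))
      ((etaM V₂.ι).app ((rpFun V₁.ι).obj J)) (kernel.condition _)
    have hT : T.ShortExact :=
      { exact := ShortComplex.exact_of_f_is_kernel _ (kernelIsKernel _)
        mono_f := inferInstanceAs (Mono (kernel.ι _))
        epi_g := epi_etaM_rpFun V₂ V₁ J hJ }
    exact ShortComplex.shortExact_of_iso (ShortComplex.isoMk (Iso.refl _) (Iso.refl _) (Iso.refl _)
      (by simp [T, ι']) (by simp [T, π'])) hT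
  let S := ThreeTerm.seqCx ι' π' hzero I.cocomplex
  have hS : S.ShortExact := ThreeTerm.seqCx_shortExact ι' π' hzero hex I
  have hrp : ∀ (V : Y.Opens) [QuasiCompact V.ι] (p : ℕ),
      ((((rpFun V.ι).mapHomologicalComplex _).obj I.cocomplex).homology p).IsQuasicoherent := fun V _ p => by
    obtain ⟨e⟩ := RPushQCoh.nonempty_homology_restrict V.ι V.ι I p
    exact RPushQCoh.qcoh_of_iso e (RPushQCoh.isQCoh_Rpush V.ι (F.restrict V.ι)
      (Scheme.Modules.isQuasicoherent_restrictFunctor V.ι F) p)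
  haveI := isIso_rpFun_unit hle
  have h3 : ∀ p, (S.X₃.homology p).IsQuasicoherent := fun p =>
    RPushQCoh.qcoh_of_iso ((HomologicalComplex.homologyFunctor Y.Modules _ p).mapIso
      ((NatIso.mapHomologicalComplex ((rpFun V₂.ι).leftUnitor.symm ≪≫
        asIso (Functor.whiskerRight (etaM V₁.ι) (rpFun V₂.ι))) _).app I.cocomplex)) (hrp V₂ p)
  refine ⟨((lcFun V₂ V₁).rightDerived i).obj F, RPushQCoh.qcoh_of_iso (I.isoRightDerivedObj _ i).symm
    (RPushQCoh.isQuasicoherent_homology_X₁ hS (hrp V₁) h3 i), ?_⟩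
  obtain ⟨e⟩ := FlasqueAcyclic.nonempty_homology_iso (FlasqueAcyclic.toAbF Y) (SuppFam.sectSuppLC (X := Y.carrier) hle)
    (fun J hJ n => by
      haveI := @FlasqueAcyclic.isFlasque_toAb Y J hJ
      exact @isZero_HZshLC_of_isFlasque Y.carrier _ _ hle _ (FlasqueAcyclic.isFlasque_toAb J) n)
    (lcIso hle) I i
  exact ⟨FlasqueAcyclic.mapRightDerivedIso (lcFun V₂ V₁) (FlasqueAcyclic.toAbF Y) I i ≪≫ e.symm⟩

end Scheme

end Groth.Agent.LocCohZSS
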