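import Groth.Agent.LocCohZSS.ExtPresheaf
import Groth.Agent.LocCohZSS.LocClosed

/-!
# Local cohomology sheaves as sheafified presheaves of local cohomology groups
-/

set_option linter.style.haveILetI false

noncomputable section

universe u

open CategoryTheory Limits TopologicalSpace Opposite

namespace Groth.Agent.LocCohZSS

open QCohBase CohTopLib LocCohZLib

variable {X : TopCat.{u}} {W V : Opens X} (h : W ≤ V)

/-- the family of pairs cut out by the opens -/
def zqFun : Opens X ⥤ CohTop.Ab X where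
  obj T := LocCohZ.zq (inf_le_inf_right T h : W ⊓ T ≤ V ⊓ T)
  map {T' T} g := LocCohZ.zqMap (inf_le_inf_right T h) (inf_le_inf_right T' h)
    (inf_le_inf_left W (leOfHom g)) (inf_le_inf_left V (leOfHom g))
  map_id T := SuppFam.zqMap_id _
  map_comp f g := (SuppFam.zqMap_comp _ _ _ _ _ _ _).symm

/-- the Ext presheaf is the presheaf of cohomology with supports -/
def extPreHZIso (F : CohTop.Ab X) (q : ℕ) : extPre (zqFun h) q F ≅ SuppFam.HZpre F q h :=
  NatIso.ofComponents (fun _ => Iso.refl _) fun _ => rfl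

lemma homZEquiv_zqMap {W' V' : Opens X} (h' : W' ≤ V') (hW : W' ≤ W) (hV : V' ≤ V) (F : CohTop.Ab X)
    (a : LocCohZ.zq h ⟶ F) :
    (homZEquiv h' F (LocCohZ.zqMap h h' hW hV ≫ a)).1 = QCohBase.res F.obj hV (homZEquiv h F a).1 := by
  show CohFree.evalGen _ V' F (cokernel.π _ ≫ CategoryTheory.Abelian.Ext.addEquiv₀ _) =
    QCohBase.res F.obj hV (CohFree.evalGen _ V F (cokernel.π _ ≫ CategoryTheory.Abelian.Ext.addEquiv₀ _))
  erw [AddEquiv.apply_symm_apply, AddEquiv.apply_symm_apply]
  rw [LocCohZ.zqMap, cokernel.π_desc_assoc, Category.assoc]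
  exact CohFree.evalGen_freeSheafMap_comp _ _ _ _

/-- the open over which sections of the sheaf of sections with support are taken -/
abbrev lcO (V T : Opens X) : Opens X := V.isOpenEmbedding.isOpenMap.functor.obj ((Opens.map (CohCx.incl V)).obj T)

lemma lcO_eq (T : Opens X) : lcO V T = V ⊓ T :=
  Opens.ext ((Set.image_preimage_eq_range_inter).trans
    (congrArg (· ∩ (T : Set X)) Subtype.range_coe))

/-- value in the ambient sheaf -/
def lcVal (F : CohTop.Ab X) (T : Opens X) :
    ((SuppFam.sectSuppLC h).obj F).obj.obj (op T) →+ F.obj.obj (op (V ⊓ T)) :=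
  (secCongr F (lcO_eq T)).toAddMonoidHom.comp (lcSect h F T)

lemma lcVal_injective (F : CohTop.Ab X) (T : Opens X) : Function.Injective (lcVal h F T) :=
  (secCongr F (lcO_eq T)).injective.comp (sSupp_injective _ _ _)

lemma exists_lcVal_iff (F : CohTop.Ab X) (T : Opens X) (s : F.obj.obj (op (V ⊓ T))) :
    (∃ t, lcVal h F T t = s) ↔ s ∈ LocCohZ.sectZ F (inf_le_inf_right T h : W ⊓ T ≤ V ⊓ T) := by
  have hW : V.isOpenEmbedding.isOpenMap.functor.obj
      ((Opens.map (CohCx.incl V)).obj T ⊓ SuppFam.inOpen V W) = W ⊓ T := Opens.ext (Set.ext fun x => by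
    constructor
    · rintro ⟨y, ⟨hT, hy⟩, rfl⟩
      exact ⟨hy, hT⟩
    · rintro ⟨hy, hT⟩
      exact ⟨⟨x, h hy⟩, ⟨hT, hy⟩, rfl⟩)
  have key : ∀ t : F.obj.obj (op (lcO V T)), secCongr F hW (QCohBase.res F.obj
      (V.isOpenEmbedding.isOpenMap.functor.map (homOfLE inf_le_left :
        (Opens.map (CohCx.incl V)).obj T ⊓ SuppFam.inOpen V W ⟶ (Opens.map (CohCx.incl V)).obj T)).le t) =
      QCohBase.res F.obj (inf_le_inf_right T h : W ⊓ T ≤ V ⊓ T) (secCongr F (lcO_eq T) t) := fun t =>
    (res_res F.obj _ _ t).trans (res_res F.obj _ _ t).symm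
  obtain ⟨t, rfl⟩ := (secCongr F (lcO_eq T)).surjective s
  refine Iff.trans ?_ ((exists_sSupp_iff (SuppFam.inOpen V W) (CohTop.restr F V) t).trans
    ((map_eq_zero_iff _ (secCongr F hW).injective).symm.trans (Iff.of_eq (congrArg (· = 0) (key t)))))
  exact exists_congr fun x => (secCongr F (lcO_eq T)).injective.eq_iff

/-- sections of the sheaf of sections with locally closed support -/
def lcSectEquiv (F : CohTop.Ab X) (T : Opens X) :
    ((SuppFam.sectSuppLC h).obj F).obj.obj (op T) ≃+
      (LocCohZ.zq (inf_le_inf_right T h : W ⊓ T ≤ V ⊓ T) ⟶ F) :=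
  ((AddMonoidHom.ofInjective (lcVal_injective h F T)).trans
    (AddEquiv.addSubgroupCongr (AddSubgroup.ext fun s => exists_lcVal_iff h F T s))).trans (homZEquiv _ F).symm

lemma lcSectEquiv_val (F : CohTop.Ab X) (T : Opens X) (x) :
    (homZEquiv _ F (lcSectEquiv h F T x)).1 = lcVal h F T x :=
  congrArg Subtype.val ((homZEquiv (inf_le_inf_right T h : W ⊓ T ≤ V ⊓ T) F).apply_symm_apply _)

/-- sections with support as homomorphism presheaves -/
def sectSuppLCPreIso :
    SuppFam.sectSuppLC h ⋙ sheafToPresheaf (Opens.grothendieckTopology X) AddCommGrpCat.{u} ≅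
      homPre (zqFun h) :=
  NatIso.ofComponents (fun F => NatIso.ofComponents (fun T => (lcSectEquiv h F T.unop).toAddCommGrpIso)
    fun {T T'} g => by
      refine AddCommGrpCat.ext fun x => ?_
      apply (homZEquiv (inf_le_inf_right T'.unop h) F).injective
      refine Subtype.ext ((lcSectEquiv_val h F T'.unop _).trans ?_)
      refine Eq.trans ?_ (homZEquiv_zqMap (inf_le_inf_right T.unop h) (inf_le_inf_right T'.unop h)
        (inf_le_inf_left W g.unop.le) (inf_le_inf_left V g.unop.le) F (lcSectEquiv h F T.unop x)).symm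
      refine Eq.trans ?_ (congrArg (QCohBase.res F.obj (inf_le_inf_left V g.unop.le))
        (lcSectEquiv_val h F T.unop x)).symm
      refine (congrArg (secCongr F (lcO_eq T'.unop)) (sSupp_res (SuppFam.inOpen V W) (CohTop.restr F V)
        ((Opens.map (CohCx.incl V)).map g.unop).le x)).trans ?_
      exact (res_res F.obj (V.isOpenEmbedding.isOpenMap.functor.map ((Opens.map (CohCx.incl V)).map g.unop)).le
        (lcO_eq T'.unop).ge _).trans (res_res F.obj (lcO_eq T.unop).ge (inf_le_inf_left V g.unop.le) _).symm)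
    fun {F G} φ => by
      refine NatTrans.ext (funext fun T => AddCommGrpCat.ext fun x => ?_)
      apply (homZEquiv (inf_le_inf_right T.unop h) G).injective
      refine Subtype.ext ((lcSectEquiv_val h G T.unop _).trans ?_)
      refine Eq.trans ?_ (homZEquiv_nat (inf_le_inf_right T.unop h) φ (lcSectEquiv h F T.unop x)).symm
      refine Eq.trans ?_ (congrArg (φ.hom.app (op (V ⊓ T.unop))) (lcSectEquiv_val h F T.unop x)).symm
      refine (congrArg (secCongr G (lcO_eq T.unop)) (sSupp_nat (SuppFam.inOpen V W)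
        ((CohTop.restrFunctor V).map φ) _ x)).trans ?_
      exact (secCongr_nat φ (lcO_eq T.unop) _).symm

theorem nonempty_HZshLC_iso_sheafify (F : CohTop.Ab X) (q : ℕ) :
    Nonempty ((SuppFam.HZshLC h q).obj F ≅
      (presheafToSheaf (Opens.grothendieckTopology X) AddCommGrpCat.{u}).obj (SuppFam.HZpre F q h)) := by
  let L := presheafToSheaf (Opens.grothendieckTopology X) AddCommGrpCat.{u}
  let e : SuppFam.sectSuppLC h ≅ homPre (zqFun h) ⋙ L :=
    Functor.isoWhiskerLeft (SuppFam.sectSuppLC h)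
      (asIso (sheafificationAdjunction (Opens.grothendieckTopology X) AddCommGrpCat.{u}).counit).symm ≪≫
      Functor.isoWhiskerRight (sectSuppLCPreIso h) L
  obtain ⟨a⟩ := nonempty_rightDerived_comp_homPre (zqFun h) L (SuppFam.sectSuppLC h) e F q
  exact ⟨a ≪≫ L.mapIso (extPreHZIso h F q)⟩

end Groth.Agent.LocCohZSS
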