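import Groth.Agent.KoszulCech.Apps
import Mathlib.AlgebraicGeometry.Modules.Tilde

/-!
# Koszul colimits of a module and of the sections of its associated sheaf
-/

set_option autoImplicit false
set_option backward.isDefEq.respectTransparency false
set_option backward.isDefEq.respectTransparency.types false

noncomputable section

universe u

open Finset CategoryTheory Limits AlgebraicGeometry Opposite TopologicalSpace
open Groth.Agent.QCohBase Groth.Agent.KoszulCech

namespace Groth.Agent.LocCohZSS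

variable {A : Type u} [CommRing A] {B : Type u} [CommRing B] {M : Type u} [AddCommGroup M] [Module A M]
  {N : Type u} [AddCommGroup N] [Module B N] {ι : Type} [DecidableEq ι] {f : ι → A} {g : ι → B}
  (Z : Sys A M f) (Z' : Sys B N g) (E : ∀ S, Z.N S ≃+ Z'.N S)
  (hE : ∀ (S T : Finset ι), S ⊆ T → ∀ x, E T (Z.tr S T x) = Z'.tr S T (E S x))
  {κ : Type} (e : κ → ι)

/-- cochains of isomorphic systems -/
def cEquiv (p : ℕ) : C Z e ∅ p ≃+ C Z' e ∅ p := AddEquiv.piCongrRight fun _ => E _

include hE in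
lemma cEquiv_d {p : ℕ} (s : C Z e ∅ p) :
    cEquiv Z Z' E e (p + 1) (d Z ∅ s) = d Z' ∅ (cEquiv Z Z' E e p s) := by
  funext i
  show E _ (D Z e (fun _ => 1) ∅ ∅ s i) = D Z' e (fun _ => 1) ∅ ∅ (cEquiv Z Z' E e p s) i
  rw [D_apply, D_apply, map_sum]
  refine Finset.sum_congr rfl fun k _ => ?_
  rw [map_zsmul, hE _ _ (union_subset_union subset_rfl (face_subset e i k))]
  rfl

include hE in
theorem nonempty_Hc_congr (p : ℕ) : Nonempty (Hc Z e p ≃+ Hc Z' e p) := by
  let Φ : Zc Z e p ≃+ Zc Z' e p :=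
    { toFun := fun s => ⟨cEquiv Z Z' E e p s.1, by
        show d Z' ∅ _ = 0
        rw [← cEquiv_d Z Z' E hE, show d Z ∅ s.1 = 0 from s.2, map_zero]⟩
      invFun := fun s => ⟨(cEquiv Z Z' E e p).symm s.1, by
        show d Z ∅ _ = 0
        apply (cEquiv Z Z' E e (p + 1)).injective
        rw [cEquiv_d Z Z' E hE, AddEquiv.apply_symm_apply, map_zero]
        exact s.2⟩
      left_inv := fun s => Subtype.ext ((cEquiv Z Z' E e p).symm_apply_apply s.1)
      right_inv := fun s => Subtype.ext ((cEquiv Z Z' E e p).apply_symm_apply s.1)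
      map_add' := fun a b => Subtype.ext (map_add (cEquiv Z Z' E e p) a.1 b.1) }
  refine ⟨QuotientAddGroup.congr (Bc Z e p).toAddSubgroup (Bc Z' e p).toAddSubgroup Φ ?_⟩
  ext t
  constructor
  · rintro ⟨s, hs, rfl⟩
    change IsBd Z' ∅ (cEquiv Z Z' E e p s.1)
    cases p with
    | zero => exact (congrArg _ (show s.1 = 0 from hs)).trans (map_zero _)
    | succ p =>
      obtain ⟨w, hw⟩ := (show ∃ w, d Z ∅ w = s.1 from hs)
      exact ⟨cEquiv Z Z' E e p w, by rw [← cEquiv_d Z Z' E hE, hw]⟩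
  · intro ht
    refine ⟨Φ.symm t, ?_, Φ.apply_symm_apply t⟩
    change IsBd Z ∅ ((cEquiv Z Z' E e p).symm t.1)
    cases p with
    | zero => exact (congrArg _ (show t.1 = 0 from ht)).trans (map_zero _)
    | succ p =>
      obtain ⟨w, hw⟩ := (show ∃ w, d Z' ∅ w = t.1 from ht)
      refine ⟨(cEquiv Z Z' E e p).symm w, (cEquiv Z Z' E e (p + 1)).injective ?_⟩
      rw [cEquiv_d Z Z' E hE, AddEquiv.apply_symm_apply, AddEquiv.apply_symm_apply, hw]

section Tilde

variable {R : CommRingCat.{u}} {r : ℕ} (f : Fin r → R) (M : ModuleCat.{u} R)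

/-- the family among the global functions -/
abbrev glob (j : Fin r) : Γ(Spec R, ⊤) := (Scheme.ΓSpecIso R).inv.hom (f j)

lemma bo_glob (S : Finset (Fin r)) : bo (glob f) S = PrimeSpectrum.basicOpen (∏ j ∈ S, f j) := by
  have h : (∏ j ∈ S, glob f j) = (Scheme.ΓSpecIso R).inv.hom (∏ j ∈ S, f j) := (map_prod _ _ _).symm
  rw [bo, h]
  exact basicOpen_eq_of_affine _

/-- the localisations of `M` as sections of `M~` -/
def tSys : Sys R M f where
  N S := (modulesSpecToSheaf.obj (tilde M)).presheaf.obj (.op (bo (glob f) S))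
  η S := (tilde.toOpen M (bo (glob f) S)).hom
  loc S := by
    rw [bo_glob f S]
    infer_instance

lemma tSys_tr {S T : Finset (Fin r)} (h : S ⊆ T) :
    (tSys f M).tr S T = ((modulesSpecToSheaf.obj (tilde M)).presheaf.map (homOfLE (bo_le (glob f) h)).op).hom := by
  haveI := (tSys f M).loc S
  refine IsLocalizedModule.ext (Submonoid.powers (∏ j ∈ S, f j)) ((tSys f M).η S)
    ((tSys f M).isUnit_of_dvd h) (LinearMap.ext fun m => ?_)
  refine ((tSys f M).tr_η h m).trans ?_
  exact (ConcreteCategory.congr_hom (tilde.toOpen_res M _ _ (homOfLE (bo_le (glob f) h))) m).symm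

theorem nonempty_koszulHLim_tilde (fs : List R) (p : ℕ) :
    Nonempty (CohIII.koszulHLim fs M p ≃+ CohIII.koszulHLim (fs.map (Scheme.ΓSpecIso R).inv.hom)
      (ModuleCat.of Γ(Spec R, ⊤) ((tilde M).val.obj (op ⊤))) p) := by
  let f := fs.get
  obtain ⟨a⟩ := nonempty_koszulHLim_equiv (tSys f M) (idx (r := fs.length)) p
  obtain ⟨b⟩ := nonempty_koszulHLim_equiv (sys (glob f) (tilde M)) (idx (r := fs.length)) p
  have h1 : (idx (r := fs.length)).map f = fs := List.map_get_finRange fs
  have h2 : (idx (r := fs.length)).map (glob f) = fs.map (Scheme.ΓSpecIso R).inv.hom :=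
    (congrArg (List.map (Scheme.ΓSpecIso R).inv.hom) h1).symm.trans (List.map_map ..) |>.symm
  obtain ⟨c⟩ := nonempty_Hc_congr (tSys f M) (sys (glob f) (tilde M)) (fun S => AddEquiv.refl _)
    (fun S T h x => by
      refine Eq.trans ?_ ((val (glob f) (tilde M)).injective (val_tr (glob f) (tilde M) h _)).symm
      rw [tSys_tr f M h]
      rfl) (idx (r := fs.length)).get p
  exact ⟨((h1 ▸ a).toAddEquiv.trans c).trans (h2 ▸ b).toAddEquiv.symm⟩

end Tilde

end Groth.Agent.LocCohZSS
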