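import Groth.Agent.LocCohZSS.HcCongr
import Groth.Agent.LocCohZLib.Ext
import Groth.Agent.CohTopLib.Functors
import Groth.Agent.QCohBase.Acyclic
import Groth.Agent.PuncturedSec.Basic

/-!
# Koszul colimits and cohomology with supports on an affine scheme
-/

set_option autoImplicit false

noncomputable section

universe u

open CategoryTheory Limits AlgebraicGeometry Opposite TopologicalSpace

namespace Groth.Agent.LocCohZSS

open CohTopLib LocCohZLib

lemma surjective_delta {Y : Scheme.{u}} [IsAffine Y] (M : Y.Modules) [M.IsQuasicoherent] (U : Y.Opens) (i : ℕ) :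
    Function.Surjective (LocCohZ.delta (X := Y.carrier) (Coh.toAb M) i (le_top : U ≤ ⊤)) := fun y =>
  exists_delta_eq (X := Y.carrier) _ _ i y (@Subsingleton.elim _
    ((subsingleton_H_iff (X := Y.carrier) (Coh.toAb M) (i + 1)).1
      (QCohBase.subsingleton_HH_of_isAffine M i.succ_pos)) _ _)

lemma injective_delta {Y : Scheme.{u}} [IsAffine Y] (M : Y.Modules) [M.IsQuasicoherent] (U : Y.Opens) (i : ℕ) :
    Function.Injective (LocCohZ.delta (X := Y.carrier) (Coh.toAb M) (i + 1) (le_top : U ≤ ⊤)) :=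
  (injective_iff_map_eq_zero _).2 fun w hw => by
    obtain ⟨x, rfl⟩ := exists_res_eq (X := Y.carrier) _ _ (i + 1) w hw
    rw [@Subsingleton.elim _ ((subsingleton_H_iff (X := Y.carrier) (Coh.toAb M) (i + 1)).1
      (QCohBase.subsingleton_HH_of_isAffine M i.succ_pos)) x 0, map_zero]

theorem nonempty_koszul_HZM (X : Scheme.{u}) [IsAffine X] (fs : List Γ(X, ⊤)) (F : X.Modules) [Coh.IsQCoh F] (i : ℕ) :
    Nonempty (CohIII.koszulHLim fs (ModuleCat.of Γ(X, ⊤) (F.val.obj (op ⊤))) i ≃+
      LocCohZ.HZM X F i (⨆ j : Fin fs.length, X.basicOpen (fs.get j))) := by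
  set U : X.Opens := ⨆ j : Fin fs.length, X.basicOpen (fs.get j) with hUdef
  obtain ⟨e⟩ := KoszulCech.nonempty_hlim fs F i
  have key : Nonempty (LocCohZ.HZM X F i U ≃+ KoszulCech.Hc (KoszulCech.sys fs.get F)
      (KoszulCech.e₀ (r := fs.length)) i) := by
    match i with
    | 0 =>
      obtain ⟨k⟩ := KoszulCech.nonempty_ker_equiv F fs.get
      exact ⟨AddEquiv.trans (LocCohZ.sect0Equiv (X := X.carrier) (Coh.toAb F) (le_top : U ≤ ⊤)) k⟩
    | 1 =>
      obtain ⟨k⟩ := KoszulCech.nonempty_coker_equiv F fs.get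
      let ψ : (Coh.toAb F).obj.obj (op U) →+ LocCohZ.HZM X F 1 U :=
        (LocCohZ.delta (X := X.carrier) (Coh.toAb F) 0 (le_top : U ≤ ⊤)).comp
          (hu0 (X := X.carrier) (Coh.toAb F) U).symm.toAddMonoidHom
      have hψ : Function.Surjective ψ := (surjective_delta F U 0).comp (hu0 _ U).symm.surjective
      have hker : ψ.ker = ((Coh.toAb F).obj.map (homOfLE (le_top : U ≤ ⊤)).op).hom.range := by
        ext s
        rw [AddMonoidHom.mem_ker, AddMonoidHom.mem_range]
        constructor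
        · intro hs
          obtain ⟨x, hx⟩ := exists_res_eq (X := X.carrier) _ _ 0 _ hs
          exact ⟨hu0 (X := X.carrier) _ _ x, (hu0_res _ x).symm.trans
            ((congrArg _ hx).trans ((hu0 (X := X.carrier) _ U).apply_symm_apply s))⟩
        · rintro ⟨x, rfl⟩
          refine (congrArg (LocCohZ.delta (X := X.carrier) (Coh.toAb F) 0 (le_top : U ≤ ⊤)) ?_).trans
            (delta_res (X := X.carrier) (le_top : U ≤ ⊤) (Coh.toAb F) 0
              ((hu0 (X := X.carrier) (Coh.toAb F) ⊤).symm x))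
          apply (hu0 (X := X.carrier) (Coh.toAb F) U).injective
          refine ((hu0 _ U).apply_symm_apply _).trans ?_
          rw [hu0_res, AddEquiv.apply_symm_apply]
      exact ⟨((QuotientAddGroup.quotientKerEquivOfSurjective ψ hψ).symm.trans
        (QuotientAddGroup.quotientAddEquivOfEq hker)).trans k⟩
    | q + 2 =>
      obtain ⟨h⟩ := KoszulCech.nonempty_HHon_equiv fs F (fun j => (isAffineOpen_top X).basicOpen _) q
      obtain ⟨r⟩ := nonempty_HU_restr (X := X.carrier) (Coh.toAb F) U (q + 1)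
      obtain ⟨e'⟩ := KoszulCech.nonempty_hlim fs F (q + 2)
      exact ⟨(AddEquiv.ofBijective _ ⟨injective_delta F U q, surjective_delta F U (q + 1)⟩).symm.trans
        (AddEquiv.trans r (AddEquiv.trans h e'))⟩
  obtain ⟨k⟩ := key
  exact ⟨e.trans k.symm⟩

theorem nonempty_koszul_tilde (A : Type u) [CommRing A] (fs : List A) (M : Type u) [AddCommGroup M] [Module A M] (i : ℕ) :
    Nonempty (CohIII.koszulHLim fs (ModuleCat.of A M) i ≃+
      LocCohZ.HZM (Spec (CommRingCat.of A)) (AlgebraicGeometry.tilde (R := CommRingCat.of A) (ModuleCat.of A M)) i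
        (LocCoh.puncturedOpen A (Ideal.span {a | a ∈ fs}))) := by
  let R := CommRingCat.of A
  let fs' := fs.map (Scheme.ΓSpecIso R).inv.hom
  obtain ⟨a⟩ := nonempty_koszulHLim_tilde (R := R) (ModuleCat.of A M) fs i
  obtain ⟨b⟩ := nonempty_koszul_HZM (Spec R) fs' (tilde (R := R) (ModuleCat.of A M)) i
  have hU : (⨆ j : Fin fs'.length, (Spec R).basicOpen (fs'.get j)) = LocCoh.puncturedOpen A (Ideal.span {a | a ∈ fs}) := by
    refine Opens.ext (Set.ext fun x => ?_)
    simp only [LocCoh.puncturedOpen, PrimeSpectrum.zeroLocus_span, Opens.coe_iSup, Set.mem_iUnion, Opens.coe_mk,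
      Set.mem_compl_iff]
    constructor
    · rintro ⟨j, hj⟩
      obtain ⟨a, ha, he⟩ := List.mem_map.1 (List.get_mem fs' j)
      rw [← he, basicOpen_eq_of_affine] at hj
      exact fun h => hj ((PrimeSpectrum.mem_zeroLocus _ _).1 h ha)
    · intro h
      obtain ⟨a, ha, hx⟩ := Set.not_subset.1 (mt (PrimeSpectrum.mem_zeroLocus _ _).2 h)
      obtain ⟨j, hj⟩ := List.get_of_mem (List.mem_map_of_mem (f := (Scheme.ΓSpecIso R).inv.hom) ha)
      exact ⟨j, by rw [hj, basicOpen_eq_of_affine]; exact hx⟩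
  exact hU ▸ ⟨a.trans b⟩

end Groth.Agent.LocCohZSS
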