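import Groth.Agent.RPushQCoh.Qcoh
import Groth.Agent.CohTopLib.ThreeTerm
import Groth.Prelude.Def_LocCohZ

/-!
# Quasi-coherence of local cohomology sheaves of modules
-/

noncomputable section

universe u

open CategoryTheory Limits AlgebraicGeometry Opposite TopologicalSpace

namespace Groth.Agent.LocCohZSS

open Groth.Agent.CohTopLib

variable {U Y : Scheme.{u}} (j : U ⟶ Y) [IsOpenImmersion j]

/-- restrict and push forward -/
abbrev rpFun : Y.Modules ⥤ Y.Modules := Scheme.Modules.restrictFunctor j ⋙ Scheme.Modules.pushforward j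

instance rpFun_additive : (rpFun j).Additive :=
  haveI : (Scheme.Modules.restrictFunctor j).Additive :=
    (Scheme.Modules.restrictAdjunction j).left_adjoint_additive
  inferInstance

/-- forget the support -/
def iotaM : DCoh.gammaZ j ⟶ 𝟭 Y.Modules where
  app F := kernel.ι _
  naturality {F G} φ := kernel.lift_ι _ _ _

/-- the unit -/
abbrev etaM : 𝟭 Y.Modules ⟶ rpFun j := (Scheme.Modules.restrictAdjunction j).unit

lemma iotaM_etaM : iotaM j ≫ etaM j = 0 := NatTrans.ext (funext fun _ => kernel.condition _)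

lemma epi_etaM (I : Y.Modules) (hI : Injective I) : Epi ((etaM j).app I) := by
  haveI := @FlasqueAcyclic.isFlasque_toAb Y I hI
  refine (SheafOfModules.toSheaf Y.ringCatSheaf).epi_of_epi_map ?_
  refine (CategoryTheory.Sheaf.isLocallySurjective_iff_epi'
    (φ := (SheafOfModules.toSheaf Y.ringCatSheaf).map ((etaM j).app I))).1 ?_
  refine (TopCat.Presheaf.isLocallySurjective_iff _).2 fun V s y hy => ?_
  obtain ⟨t, ht⟩ := (AddCommGrpCat.epi_iff_surjective _).1
    (TopCat.Presheaf.IsFlasque.epi (F := (Coh.toAb I).obj) (homOfLE (j.image_preimage_le V)).op) s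
  exact ⟨V, le_rfl, ⟨t, ht.trans
    (ConcreteCategory.congr_hom (((SheafOfModules.toSheaf Y.ringCatSheaf).obj
      ((rpFun j).obj I)).obj.map_id (op V)) s).symm⟩, hy⟩

lemma hex (I : Y.Modules) (hI : Injective I) : (ThreeTerm.seqAt (iotaM j) (etaM j) (iotaM_etaM j) I).ShortExact where
  exact := ShortComplex.exact_of_f_is_kernel _ (kernelIsKernel _)
  mono_f := inferInstanceAs (Mono (kernel.ι _))
  epi_g := epi_etaM j I hI

variable [QuasiCompact j] [HasInjectiveResolutions Y.Modules]

theorem isQCoh_HZshM (M : Y.Modules) (hM : Coh.IsQCoh M) (q : ℕ) :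
    Coh.IsQCoh ((LocCohZ.HZshM j q).obj M) := by
  haveI hq : M.IsQuasicoherent := hM
  let I := injectiveResolution M
  let T := ThreeTerm.seqCx (iotaM j) (etaM j) (iotaM_etaM j) I.cocomplex
  have hS : T.ShortExact := ThreeTerm.seqCx_shortExact (iotaM j) (etaM j) (iotaM_etaM j) (hex j) I
  have h3 : ∀ p, (T.X₃.homology p).IsQuasicoherent := fun p => by
    obtain ⟨e⟩ := RPushQCoh.nonempty_homology_restrict j j I p
    exact RPushQCoh.qcoh_of_iso e (RPushQCoh.isQCoh_Rpush j (M.restrict j)
      (Scheme.Modules.isQuasicoherent_restrictFunctor j M) p)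
  have h2 : ∀ p, (T.X₂.homology p).IsQuasicoherent := fun p => by
    cases p with
    | zero => exact RPushQCoh.qcoh_of_iso (((𝟭 Y.Modules).rightDerivedZeroIsoSelf.app M).symm ≪≫
        I.isoRightDerivedObj (𝟭 Y.Modules) 0) hq
    | succ p => exact RPushQCoh.isQuasicoherent_of_isZero (ThreeTerm.exactAt_exact_functor I p)
  refine RPushQCoh.qcoh_of_iso (I.isoRightDerivedObj (DCoh.gammaZ j) q).symm ?_
  change (T.X₁.homology q).IsQuasicoherent
  cases q with
  | zero =>
    haveI : Mono (HomologicalComplex.homologyMap T.f 0) := by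
      haveI := hS.mono_f
      haveI : Mono (HomologicalComplex.cyclesMap T.f 0) :=
        mono_of_mono_fac (HomologicalComplex.cyclesMap_i T.f 0)
      have h : HomologicalComplex.homologyMap T.f 0 = inv (T.X₁.homologyπ 0) ≫
          HomologicalComplex.cyclesMap T.f 0 ≫ T.X₂.homologyπ 0 := by
        rw [IsIso.eq_inv_comp, HomologicalComplex.homologyπ_naturality]
      rw [h]
      infer_instance
    exact QCohBase.isQuasicoherent_of_exact_left (hS.homology_exact₂ 0) (h2 0) (h3 0)
  | succ q =>
    cases q with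
    | zero =>
      have hex := hS.homology_exact₃ 0 1 rfl
      haveI : Epi (hS.δ 0 1 rfl) :=
        (hS.homology_exact₁ 0 1 rfl).epi_f ((ThreeTerm.exactAt_exact_functor I 0).eq_of_tgt _ _)
      exact RPushQCoh.qcoh_of_iso ((cokernelIsCokernel _).coconePointUniqueUpToIso hex.gIsCokernel)
        (QCohBase.isQuasicoherent_cokernel _ (h2 0) (h3 0))
    | succ q =>
      haveI : IsIso (hS.δ (q + 1) (q + 1 + 1) rfl) :=
        hS.isIso_δ (q + 1) (q + 1 + 1) rfl (ThreeTerm.exactAt_exact_functor I q) (ThreeTerm.exactAt_exact_functor I (q + 1))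
      exact RPushQCoh.qcoh_of_iso (asIso (hS.δ (q + 1) (q + 1 + 1) rfl)) (h3 (q + 1))

end Groth.Agent.LocCohZSS
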