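import Groth.Agent.CohTopLib.Functors
import Groth.Agent.SiteCoh.OverExt
import Groth.Agent.DerCat.KInjLib
import Mathlib.Topology.Sheaves.Over

/-!
# Restriction to an open subspace has an exact left adjoint
-/

set_option linter.style.haveILetI false

noncomputable section

universe u

open CategoryTheory Limits TopologicalSpace Opposite

namespace Groth.Agent.LocCohZSS

variable {X : TopCat.{u}} (U : Opens X)

/-- extension by zero -/
abbrev extZeroOpen : CohTop.Ab (TopCat.of U) ⥤ CohTop.Ab X :=
  (U.sheafEquivOver (A := AddCommGrpCat.{u})).inverse ⋙ SiteCoh.OverExact.shr U (Opens.grothendieckTopology X)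

/-- extension by zero is left adjoint to restriction -/
def extZeroOpenAdj : extZeroOpen U ⊣ CohTop.restrFunctor U :=
  ((U.sheafEquivOver (A := AddCommGrpCat.{u})).symm.toAdjunction.comp
    (SiteCoh.OverExact.shrAdj U (Opens.grothendieckTopology X))).ofNatIsoRight U.overPullbackSheafEquivOver

theorem preservesFiniteLimits_extZeroOpen : PreservesFiniteLimits (extZeroOpen U) :=
  haveI := SiteCoh.OverExact.sheafPullback_over_preservesFiniteLimits U (Opens.grothendieckTopology X)
  comp_preservesFiniteLimits _ _

theorem injective_restr (I : CohTop.Ab X) [Injective I] : Injective (CohTop.restr I U) :=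
  haveI := preservesFiniteLimits_extZeroOpen U
  haveI : (extZeroOpen U).PreservesMonomorphisms :=
    @CategoryTheory.preservesMonomorphisms_of_preservesLimitsOfShape _ _ _ _ (extZeroOpen U)
      (PreservesFiniteLimits.preservesFiniteLimits _)
  @Injective.injective_of_adjoint _ _ _ _ (extZeroOpen U) (CohTop.restrFunctor U) (by assumption)
    (extZeroOpenAdj U) I _

theorem isKInjective_restr (I : CochainComplex (CohTop.Ab X) ℤ) [I.IsKInjective] :
    CochainComplex.IsKInjective (((CohTop.restrFunctor U).mapHomologicalComplex (ComplexShape.up ℤ)).obj I) := by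
  haveI := preservesFiniteLimits_extZeroOpen U
  haveI := (extZeroOpenAdj U).leftAdjoint_preservesColimits
  haveI : PreservesFiniteColimits (extZeroOpen U) := PreservesColimitsOfSize.preservesFiniteColimits.{u, u} _
  haveI : (extZeroOpen U).Additive := (extZeroOpenAdj U).left_adjoint_additive
  exact DerCat.isKInjective_map_rightAdjoint (extZeroOpenAdj U) I

end Groth.Agent.LocCohZSS
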