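import Groth.Agent.LocCohZLib.Derived

/-!
# Vanishing of the first two local cohomology sheaves
-/

set_option linter.style.haveILetI false

noncomputable section

universe u

open CategoryTheory Limits TopologicalSpace Opposite

namespace Groth.Agent.LocCohZSS

open QCohBase CohTopLib LocCohZLib

lemma bijective_square {A B C D : Type u} {f : A → B} {g : A → C} {h : B → D} {k : C → D}
    (e : ∀ a, h (f a) = k (g a)) (hh : Function.Bijective h) (hk : Function.Bijective k) :
    Function.Bijective f ↔ Function.Bijective g := by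
  rw [← hh.of_comp_iff' f, show h ∘ f = k ∘ g from funext e, hk.of_comp_iff' g]

variable {X : TopCat.{u}} (U : Opens X) (F : CohTop.Ab X)

lemma isIso_eta_iff :
    IsIso ((eta U).app F) ↔ ∀ W : Opens X, Function.Bijective (QCohBase.res F.obj (inf_le_left : W ⊓ U ≤ W)) := by
  have sq : ∀ (W : Opens X) (s : F.obj.obj (op W)),
      QCohBase.res ((GF U).obj F).obj (inf_le_left : W ⊓ U ≤ W) (((eta U).app F).hom.app (op W) s) =
        ((eta U).app F).hom.app (op (W ⊓ U)) (QCohBase.res F.obj (inf_le_left : W ⊓ U ≤ W) s) := fun W s =>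
    nat_res F.obj ((eta U).app F).hom (inf_le_left : W ⊓ U ≤ W) s
  constructor
  · intro h W
    have hb : Function.Bijective (((eta U).app F).hom.app (op W)) :=
      ConcreteCategory.bijective_of_isIso (((sheafToPresheaf _ _).map ((eta U).app F)).app (op W))
    exact (bijective_square (sq W) (GF_res_bijective U F W) (eta_app_bijective U F inf_le_right)).1 hb
  · intro h
    haveI : ∀ W, IsIso (((sheafToPresheaf _ _).map ((eta U).app F)).app W) := fun W => by
      refine (ConcreteCategory.isIso_iff_bijective _).2 ?_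
      exact (bijective_square (sq W.unop) (GF_res_bijective U F W.unop)
        (eta_app_bijective U F inf_le_right)).2 (h W.unop)
    haveI : IsIso ((sheafToPresheaf _ _).map ((eta U).app F)) := NatIso.isIso_of_isIso_app _
    exact isIso_of_reflects_iso _ (sheafToPresheaf _ _)

theorem isZero_HZsh_lt_two_iff :
    (∀ i < 2, IsZero ((LocCohZ.HZsh U i).obj F)) ↔
      ∀ W : Opens X, Function.Bijective (QCohBase.res F.obj (inf_le_left : W ⊓ U ≤ W)) := by
  obtain ⟨⟨e⟩, -⟩ := nonempty_HZsh_isos U
  let e' : (LocCohZ.HZsh U 1).obj F ≅ cokernel ((eta U).app F) :=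
    e.app F ≪≫ PreservesCokernel.iso ((evaluation (CohTop.Ab X) (CohTop.Ab X)).obj F) (eta U)
  have h0 : IsZero ((LocCohZ.HZsh U 0).obj F) ↔ Mono ((eta U).app F) :=
    (isZero_HZsh_zero_iff U F).trans
      ⟨fun h => Preadditive.mono_of_isZero_kernel _ h, fun h => isZero_kernel_of_mono _⟩
  rw [← isIso_eta_iff]
  constructor
  · intro h
    haveI := h0.1 (h 0 two_pos)
    haveI := Preadditive.epi_of_isZero_cokernel _ ((h 1 one_lt_two).of_iso e'.symm)
    exact isIso_of_mono_of_epi _
  · intro h i hi
    match i, hi with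
    | 0, _ => exact h0.2 inferInstance
    | 1, _ => exact (isZero_cokernel_of_epi ((eta U).app F)).of_iso e'

end Groth.Agent.LocCohZSS
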