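import Groth.Agent.LocCohZSS.RestrInj
import Groth.Agent.LocCohZLib.Adj
import Groth.Prelude.Def_SuppFam

/-!
# Sections with supports preserve injectives
-/

set_option linter.style.haveILetI false

noncomputable section

universe u

open CategoryTheory Limits TopologicalSpace Opposite

namespace Groth.Agent.LocCohZSS

variable {X : TopCat.{u}}

theorem injective_sectSupp (U : Opens X) (I : CohTop.Ab X) [Injective I] : Injective (CohCx.sectSupp U I) := by
  haveI : Injective (CohCx.HZ U I) := LocCohZLib.injective_HZ U I
  haveI := LocCohZLib.isIso_unit_sectSupp U I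
  exact Injective.of_iso (asIso ((TopCat.Sheaf.pullbackPushforwardAdjunction AddCommGrpCat.{u}
    (CohCx.inclCompl U)).unit.app ((LocCohZ.sectSuppF U).obj I))).symm
    (CohTopLib.injective_push (CohCx.inclCompl U) (CohCx.HZ U I))

theorem injective_sectSuppLC {W V : Opens X} (h : W ≤ V) (I : CohTop.Ab X) [Injective I] :
    Injective ((SuppFam.sectSuppLC h).obj I) := by
  exact @CohTopLib.injective_push _ _ (CohCx.incl V) _
    (@injective_sectSupp _ (SuppFam.inOpen V W) (CohTop.restr I V) (injective_restr V I))

end Groth.Agent.LocCohZSS
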